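import Groth.Prelude.Def_CycDet
import Mathlib

/-!
# Admissible tuples
-/

set_option autoImplicit false
set_option linter.style.haveILetI false

universe u v w

noncomputable section

namespace CycDet29

open CycDet IsLocalRing

variable {R : Type u} [CommRing R] [IsLocalRing R] {M : Type v} [AddCommGroup M] [Module R M]

local notation "F" => CycDet.spanBefore R M

/-- no entry lies in the span of the earlier ones -/
def Nondeg {l : ℕ} (f : Fin l → M) : Prop := ∀ a : Fin l, f a ∉ F f a

lemma isUnit_of_not_mem {t : R} (h : t ∉ maximalIdeal R) : IsUnit t :=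
  not_not.1 fun h' => h ((mem_maximalIdeal t).2 h')

lemma mem_F {l : ℕ} (f : Fin l → M) {i : ℕ} {j : Fin l} (h : (j : ℕ) < i) : f j ∈ F f i :=
  Submodule.subset_span ⟨j, h, rfl⟩

lemma F_le_iff {l : ℕ} (f : Fin l → M) {i : ℕ} {N : Submodule R M} :
    F f i ≤ N ↔ ∀ j : Fin l, (j : ℕ) < i → f j ∈ N := by
  refine ⟨fun h j hj => h (mem_F f hj), fun h => Submodule.span_le.2 ?_⟩
  rintro _ ⟨j, hj, rfl⟩
  exact h j hj

lemma F_mono {l : ℕ} (f : Fin l → M) {i j : ℕ} (h : i ≤ j) : F f i ≤ F f j :=
  (F_le_iff f).2 fun _ hk => mem_F f (lt_of_lt_of_le hk h)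

lemma F_zero {l : ℕ} (f : Fin l → M) : F f 0 = ⊥ := by
  simp [spanBefore]

lemma F_top {l : ℕ} (f : Fin l → M) {i : ℕ} (h : l ≤ i) : F f i = Submodule.span R (Set.range f) := by
  refine le_antisymm (Submodule.span_mono (Set.image_subset_range _ _)) (Submodule.span_le.2 ?_)
  rintro _ ⟨j, rfl⟩
  exact mem_F f (lt_of_lt_of_le j.2 h)

lemma F_succ {l : ℕ} (f : Fin l → M) (a : Fin l) : F f ((a : ℕ) + 1) = F f a ⊔ R ∙ f a := by
  refine le_antisymm ((F_le_iff f).2 fun j hj => ?_)
    (sup_le (F_mono f (Nat.le_succ _)) ((Submodule.span_singleton_le_iff_mem _ _).2 (mem_F f (Nat.lt_succ_self _))))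
  rcases Nat.lt_succ_iff_lt_or_eq.1 hj with h | h
  · exact Submodule.mem_sup_left (mem_F f h)
  · exact Submodule.mem_sup_right (Fin.ext h ▸ Submodule.mem_span_singleton_self _)

lemma F_congr {l : ℕ} {f f' : Fin l → M} {i : ℕ} (h : ∀ j : Fin l, (j : ℕ) < i → f j = f' j) : F f i = F f' i :=
  le_antisymm ((F_le_iff f).2 fun j hj => h j hj ▸ mem_F f' hj)
    ((F_le_iff f').2 fun j hj => (h j hj).symm ▸ mem_F f hj)

lemma F_map {N : Type w} [AddCommGroup N] [Module R N] {l : ℕ} (q : M →ₗ[R] N) (f : Fin l → M) (i : ℕ) :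
    spanBefore R N (q ∘ f) i = (F f i).map q := by
  rw [spanBefore, spanBefore, Submodule.map_span, Set.image_comp]

lemma isAdmissible_map {N : Type w} [AddCommGroup N] [Module R N] {l : ℕ} (q : M →ₗ[R] N) {f : Fin l → M}
    (hf : IsAdmissible R M f) : IsAdmissible R N (q ∘ f) := fun i r hr => by
  rw [F_map, Function.comp_apply, ← map_smul]
  exact Submodule.mem_map_of_mem (hf i r hr)

/-- changing every entry by an element of the span of the earlier ones, up to unit -/
lemma F_modify {l : ℕ} {e e' : Fin l → M} (h : ∀ a : Fin l, ∃ c : Rˣ, e a - (c : R) • e' a ∈ F e a) :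
    ∀ i : ℕ, F e i = F e' i := by
  intro i
  induction i with
  | zero => rw [F_zero, F_zero]
  | succ i ih =>
    by_cases hi : i < l
    · obtain ⟨c, hc⟩ := h ⟨i, hi⟩
      rw [F_succ e ⟨i, hi⟩, F_succ e' ⟨i, hi⟩]
      simp only
      refine le_antisymm (sup_le (ih.le.trans le_sup_left) ((Submodule.span_singleton_le_iff_mem _ _).2 ?_))
        (sup_le (ih.ge.trans le_sup_left) ((Submodule.span_singleton_le_iff_mem _ _).2 ?_))
      · have : e ⟨i, hi⟩ = (e ⟨i, hi⟩ - (c : R) • e' ⟨i, hi⟩) + (c : R) • e' ⟨i, hi⟩ := (sub_add_cancel _ _).symm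
        rw [this]
        exact Submodule.add_mem_sup (ih ▸ hc) (Submodule.smul_mem _ _ (Submodule.mem_span_singleton_self _))
      · have : e' ⟨i, hi⟩ = (-(↑(c⁻¹) : R)) • (e ⟨i, hi⟩ - (c : R) • e' ⟨i, hi⟩) + (↑(c⁻¹) : R) • e ⟨i, hi⟩ := by
          rw [smul_sub, neg_smul, neg_smul, smul_smul, Units.inv_mul, one_smul]
          abel
        rw [this]
        exact Submodule.add_mem_sup (Submodule.smul_mem _ _ hc)
          (Submodule.smul_mem _ _ (Submodule.mem_span_singleton_self _))
    · rw [F_top e (show l ≤ i + 1 by omega), F_top e' (show l ≤ i + 1 by omega), ← F_top e (show l ≤ i by omega),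
        ← F_top e' (show l ≤ i by omega), ih]

lemma nondeg_modify {l : ℕ} {e e' : Fin l → M} (h : ∀ a : Fin l, ∃ c : Rˣ, e a - (c : R) • e' a ∈ F e a) :
    Nondeg (R := R) e ↔ Nondeg (R := R) e' := by
  refine forall_congr' fun a => not_congr ?_
  obtain ⟨c, hc⟩ := h a
  rw [← F_modify h a]
  constructor
  · intro he
    have : (c : R) • e' a ∈ F e a := by
      have := sub_mem he hc
      rwa [sub_sub_cancel] at this
    exact (Submodule.smul_mem_iff_of_isUnit _ c.isUnit).1 this
  · intro he'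
    have := add_mem hc (Submodule.smul_mem _ (c : R) he')
    rwa [sub_add_cancel] at this

lemma modify_single {l : ℕ} {e e' : Fin l → M} {a : Fin l} {c : Rˣ} (h : ∀ j, j ≠ a → e j = e' j)
    (hc : e a - (c : R) • e' a ∈ F e a) : ∀ j : Fin l, ∃ c : Rˣ, e j - (c : R) • e' j ∈ F e j := fun j => by
  by_cases hj : j = a
  · exact ⟨c, hj ▸ hc⟩
  · exact ⟨1, by rw [Units.val_one, one_smul, h j hj, sub_self]; exact Submodule.zero_mem _⟩

lemma admissible_modify {l : ℕ} {e e' : Fin l → M} (he : IsAdmissible R M e)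
    (h : ∀ a : Fin l, ∃ c : Rˣ, e a - (c : R) • e' a ∈ F e a) : IsAdmissible R M e' := fun a r hr => by
  obtain ⟨c, hc⟩ := h a
  rw [← F_modify h a]
  have := sub_mem (he a r hr) (Submodule.smul_mem _ r hc)
  rw [← smul_sub, sub_sub_cancel, smul_comm] at this
  exact (Submodule.smul_mem_iff_of_isUnit _ c.isUnit).1 this

/-! ### adjacent swaps -/

section Swap

variable {l : ℕ} {e : Fin l → M} {a b : Fin l}

lemma F_swap (hab : (b : ℕ) + 1 = a) {i : ℕ} (hi : i ≠ a) : F (e ∘ Equiv.swap a b) i = F e i := by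
  have key : ∀ g : Fin l → M, F (g ∘ Equiv.swap a b) i ≤ F g i := fun g => (F_le_iff _).2 fun j hj => by
    refine mem_F g ?_
    rw [Equiv.swap_apply_def]
    split_ifs with h1 h2
    · subst h1; omega
    · subst h2; omega
    · exact hj
  refine le_antisymm (key e) ?_
  have := key (e ∘ Equiv.swap a b)
  rwa [show (e ∘ Equiv.swap a b) ∘ Equiv.swap a b = e from funext fun x => by simp] at this

lemma F_swap_self (hab : (b : ℕ) + 1 = a) : F (e ∘ Equiv.swap a b) a = F e b ⊔ R ∙ e a := by
  conv_lhs => rw [← hab]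
  rw [F_succ _ b, F_swap hab (show (b : ℕ) ≠ a by omega)]
  simp

lemma admissible_swap (he : IsAdmissible R M e) (hab : (b : ℕ) + 1 = a)
    (hm : ∀ r ∈ maximalIdeal R, r • e a ∈ F e b) : IsAdmissible R M (e ∘ Equiv.swap a b) := fun j r hr => by
  by_cases hja : j = a
  · subst hja
    rw [F_swap_self hab, Function.comp_apply, Equiv.swap_apply_left]
    exact Submodule.mem_sup_left (he b r hr)
  · rw [F_swap hab (fun h => hja (Fin.ext h)), Function.comp_apply]
    by_cases hjb : j = b
    · subst hjb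
      rw [Equiv.swap_apply_right]
      exact hm r hr
    · rw [Equiv.swap_apply_of_ne_of_ne hja hjb]
      exact he j r hr

end Swap

/-! ### lengths -/

lemma length_sup_singleton (N : Submodule R M) (v : M) (hv : ∀ r ∈ maximalIdeal R, r • v ∈ N) :
    Module.length R ↥(N ⊔ R ∙ v) ≤ Module.length R N + 1 ∧
      (v ∉ N → Module.length R ↥(N ⊔ R ∙ v) = Module.length R N + 1) := by
  let N' := N ⊔ R ∙ v
  let Q := ↥N' ⧸ Submodule.comap N'.subtype N
  have hex := Module.length_eq_add_of_exact (Submodule.inclusion (le_sup_left : N ≤ N'))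
    (Submodule.comap N'.subtype N).mkQ (Submodule.inclusion_injective _) (Submodule.mkQ_surjective _) (by
      intro x
      rw [Submodule.mkQ_apply, Submodule.Quotient.mk_eq_zero, Submodule.mem_comap]
      exact ⟨fun h => ⟨⟨(x : M), h⟩, rfl⟩, fun ⟨y, hy⟩ => hy ▸ y.2⟩)
  have hvm : v ∈ N' := Submodule.mem_sup_right (Submodule.mem_span_singleton_self v)
  let π : R →ₗ[R] Q := LinearMap.toSpanSingleton R Q (Submodule.Quotient.mk ⟨v, hvm⟩)
  have hπs : Function.Surjective π := fun y => by
    obtain ⟨⟨x, hx⟩, rfl⟩ := Submodule.mkQ_surjective _ y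
    obtain ⟨n, hn, w, hw, rfl⟩ := Submodule.mem_sup.1 hx
    obtain ⟨r, rfl⟩ := Submodule.mem_span_singleton.1 hw
    refine ⟨r, ?_⟩
    rw [LinearMap.toSpanSingleton_apply, ← Submodule.Quotient.mk_smul, Submodule.mkQ_apply, Submodule.Quotient.eq,
      Submodule.mem_comap]
    show r • v - (n + r • v) ∈ N
    rw [sub_add_cancel_right]
    exact N.neg_mem hn
  have hker : maximalIdeal R ≤ LinearMap.ker π := fun r hr => by
    rw [LinearMap.mem_ker, LinearMap.toSpanSingleton_apply, ← Submodule.Quotient.mk_smul,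
      Submodule.Quotient.mk_eq_zero]
    exact hv r hr
  haveI : IsSimpleModule R (R ⧸ maximalIdeal R) :=
    isSimpleModule_iff_isCoatom.2 (maximalIdeal.isMaximal R).out
  have hsurj : Function.Surjective ((maximalIdeal R).liftQ π hker) := fun y => by
    obtain ⟨r, rfl⟩ := hπs y
    exact ⟨Submodule.Quotient.mk r, rfl⟩
  have hle : Module.length R Q ≤ 1 :=
    (Module.length_le_of_surjective _ hsurj).trans_eq (Module.length_eq_one R _)
  refine ⟨hex.trans_le (add_le_add le_rfl hle), fun hvN => hex.trans ?_⟩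
  congr 1
  have hne : (Submodule.Quotient.mk ⟨v, hvm⟩ : Q) ≠ 0 := fun h => hvN ((Submodule.Quotient.mk_eq_zero _).1 h : _)
  exact le_antisymm hle (Order.one_le_iff_pos.2 (Module.length_pos_iff.2 ⟨⟨_, 0, hne⟩⟩))

lemma length_F_le {l : ℕ} {f : Fin l → M} (hf : IsAdmissible R M f) :
    ∀ i, i ≤ l → Module.length R (F f i) ≤ i := by
  intro i
  induction i with
  | zero => intro _; rw [F_zero, Module.length_eq_zero]; exact zero_le
  | succ i ih =>
    intro hi
    rw [F_succ f ⟨i, hi⟩]
    exact ((length_sup_singleton _ _ (hf ⟨i, hi⟩)).1).trans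
      ((add_le_add (ih (by omega)) le_rfl).trans_eq (by push_cast; rfl))

lemma length_F_eq {l : ℕ} {f : Fin l → M} (hf : IsAdmissible R M f) (hn : Nondeg (R := R) f) :
    ∀ i, i ≤ l → Module.length R (F f i) = i := by
  intro i
  induction i with
  | zero => intro _; rw [F_zero, Module.length_eq_zero]; rfl
  | succ i ih =>
    intro hi
    rw [F_succ f ⟨i, hi⟩, (length_sup_singleton _ _ (hf ⟨i, hi⟩)).2 (hn _), ih (by omega)]
    push_cast; rfl

lemma length_F_lt {l : ℕ} {f : Fin l → M} (hf : IsAdmissible R M f) {a : Fin l} (ha : f a ∈ F f a) :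
    ∀ i, (a : ℕ) < i → i ≤ l → Module.length R (F f i) + 1 ≤ i := by
  intro i
  induction i with
  | zero => intro h _; omega
  | succ i ih =>
    intro hai hi
    rw [F_succ f ⟨i, hi⟩]
    rcases Nat.lt_succ_iff_lt_or_eq.1 hai with h | h
    · exact (add_le_add (length_sup_singleton _ _ (hf ⟨i, hi⟩)).1 le_rfl).trans
        ((add_le_add (ih h (by omega)) le_rfl).trans_eq (by push_cast; rfl))
    · have : (⟨i, hi⟩ : Fin l) = a := Fin.ext h.symm
      rw [this, sup_eq_left.2 ((Submodule.span_singleton_le_iff_mem _ _).2 ha)]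
      subst h
      exact (add_le_add (length_F_le hf a (by omega)) le_rfl).trans_eq (by push_cast; rfl)

lemma isFiniteLength_of_length {l : ℕ} (hl : Module.length R M = l) : IsFiniteLength R M :=
  Module.length_ne_top_iff.1 (by rw [hl]; exact ENat.coe_ne_top l)

lemma eq_top_of_length {l : ℕ} (hl : Module.length R M = l) {N : Submodule R M}
    (hN : Module.length R N = l) : N = ⊤ := by
  obtain ⟨_, _⟩ := isFiniteLength_iff_isNoetherian_isArtinian.1 (isFiniteLength_of_length hl)
  by_contra h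
  have := Submodule.length_lt h
  rw [hN, hl] at this
  exact lt_irrefl _ this

lemma nondeg_iff_span {l : ℕ} (hl : Module.length R M = l) {f : Fin l → M} (hf : IsAdmissible R M f) :
    Nondeg (R := R) f ↔ Submodule.span R (Set.range f) = ⊤ := by
  rw [← F_top f le_rfl]
  refine ⟨fun hn => eq_top_of_length hl (length_F_eq hf hn l le_rfl), fun ht a ha => ?_⟩
  have := length_F_lt hf ha l a.2 le_rfl
  rw [ht, Module.length_top, hl] at this
  have : l + 1 ≤ l := by exact_mod_cast this
  omega

lemma exists_nondeg {l : ℕ} (hl : Module.length R M = l) :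
    ∀ i, i ≤ l → ∃ f : Fin i → M, IsAdmissible R M f ∧ Nondeg (R := R) f := by
  obtain ⟨_, _⟩ := isFiniteLength_iff_isNoetherian_isArtinian.1 (isFiniteLength_of_length hl)
  intro i
  induction i with
  | zero => exact fun _ => ⟨Fin.elim0, fun a => a.elim0, fun a => a.elim0⟩
  | succ i ih =>
    intro hi
    obtain ⟨f, hf, hn⟩ := ih (by omega)
    have hne : F f i ≠ ⊤ := fun h => by
      have := length_F_eq hf hn i le_rfl
      rw [h, Module.length_top, hl] at this
      have : l = i := by exact_mod_cast this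
      omega
    have hne' : (⊤ : Submodule R (M ⧸ F f i)) ≠ ⊥ := by
      haveI : Nontrivial (M ⧸ F f i) := Submodule.Quotient.nontrivial_iff.2 hne
      exact top_ne_bot
    obtain ⟨S, hS, hmin⟩ := IsArtinian.set_has_minimal {S : Submodule R (M ⧸ F f i) | S ≠ ⊥} ⟨⊤, hne'⟩
    obtain ⟨x, hxS, hx⟩ := (Submodule.ne_bot_iff S).1 hS
    obtain ⟨v, rfl⟩ := Submodule.mkQ_surjective _ x
    have hm : ∀ r ∈ maximalIdeal R, r • v ∈ F f i := fun r hr => by
      rw [← Submodule.Quotient.mk_eq_zero]
      by_contra h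
      let S' : Submodule R (M ⧸ F f i) := R ∙ (r • (F f i).mkQ v)
      have hS' : S' ≤ S := (Submodule.span_singleton_le_iff_mem _ _).2 (S.smul_mem r hxS)
      have heq : S' = S := eq_of_le_of_not_lt hS' (hmin S' (by
        rw [Set.mem_setOf_eq, ne_eq, Submodule.span_singleton_eq_bot, ← map_smul]
        exact h))
      obtain ⟨s, hs⟩ := Submodule.mem_span_singleton.1 (heq.ge hxS)
      rw [smul_smul] at hs
      have hu : IsUnit (1 - s * r) :=
        IsLocalRing.isUnit_one_sub_self_of_mem_nonunits _ (Ideal.mul_mem_left _ s hr)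
      refine hx (hu.smul_eq_zero.1 ?_)
      rw [sub_smul, one_smul, hs, sub_self]
    have hFi : ∀ j, j ≤ i → spanBefore R M (Fin.snoc f v : Fin (i + 1) → M) j = F f j := fun j hj => by
      refine le_antisymm ((F_le_iff _).2 fun k hk => ?_) ((F_le_iff f).2 fun k hk => ?_)
      · obtain ⟨k', rfl⟩ : ∃ k' : Fin i, k'.castSucc = k := ⟨⟨k, by omega⟩, rfl⟩
        rw [Fin.snoc_castSucc]
        exact mem_F f hk
      · have h1 := mem_F (R := R) (Fin.snoc f v : Fin (i + 1) → M) (j := k.castSucc) (i := j) hk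
        rwa [Fin.snoc_castSucc] at h1
    refine ⟨Fin.snoc f v, fun a r hr => ?_, fun a => ?_⟩
    · rw [hFi a (by omega)]
      induction a using Fin.lastCases with
      | last => rw [Fin.snoc_last, Fin.val_last]; exact hm r hr
      | cast a => rw [Fin.snoc_castSucc]; exact hf a r hr
    · rw [hFi a (by omega)]
      induction a using Fin.lastCases with
      | last => rw [Fin.snoc_last, Fin.val_last, ← Submodule.Quotient.mk_eq_zero]; exact hx
      | cast a => rw [Fin.snoc_castSucc]; exact hn a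

end CycDet29

end
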