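import Groth.Agent.Lib.CycDet29.Span

/-!
# The determinant in short exact sequences and for vector spaces
-/

set_option autoImplicit false
set_option linter.style.haveILetI false

universe u v w

noncomputable section

namespace CycDet29

open CycDet IsLocalRing
open scoped TensorProduct

variable {R : Type u} [CommRing R] [IsLocalRing R]

lemma length_toNat {M : Type v} [AddCommGroup M] [Module R M] (hM : IsFiniteLength R M) :
    Module.length R M = ((Module.length R M).toNat : ℕ∞) :=
  (ENat.coe_toNat (Module.length_ne_top_iff.2 hM)).symm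

/-- a one-dimensional space as a copy of the field -/
lemma exists_equiv_self {k : Type u} [Field k] {V : Type w} [AddCommGroup V] [Module k V] {v : V} (hv : v ≠ 0)
    (htop : Submodule.span k {v} = ⊤) : ∃ e : V ≃ₗ[k] k, e v = 1 := by
  refine ⟨(LinearEquiv.ofBijective (LinearMap.toSpanSingleton k V v) ⟨?_, ?_⟩).symm, ?_⟩
  · exact smul_left_injective k hv
  · intro x
    obtain ⟨a, ha⟩ := Submodule.mem_span_singleton.1 (htop.ge (Submodule.mem_top : x ∈ ⊤))
    exact ⟨a, ha⟩
  · rw [LinearEquiv.symm_apply_eq]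
    exact (one_smul k v).symm

theorem exists_gamma {K L M : Type v} [AddCommGroup K] [Module R K] [AddCommGroup L] [Module R L] [AddCommGroup M]
    [Module R M] {k m n : ℕ} (hk : Module.length R K = k) (hm : Module.length R M = m)
    (f : K →ₗ[R] L) (g : L →ₗ[R] M) (hf : Function.Injective f) (hg : Function.Surjective g)
    (hfg : LinearMap.range f = LinearMap.ker g) (hn : k + m = n) :
    ∃ γ : (DetOfLen R K k ⊗[ResidueField R] DetOfLen R M m) ≃ₗ[ResidueField R] DetOfLen R L n,
      ∀ (eK : Adm R K k) (eM : Adm R M m) (eL : Adm R L n),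
        (Submodule.Quotient.mk (sym R K eK) : DetOfLen R K k) ≠ 0 →
        (∀ i : Fin k, eL.1 (Fin.cast hn (Fin.castAdd m i)) = f (eK.1 i)) →
        (∀ j : Fin m, g (eL.1 (Fin.cast hn (Fin.natAdd k j))) = eM.1 j) →
        γ ((Submodule.Quotient.mk (sym R K eK) : DetOfLen R K k) ⊗ₜ
          (Submodule.Quotient.mk (sym R M eM) : DetOfLen R M m)) = Submodule.Quotient.mk (sym R L eL) := by
  subst hn
  have hl : Module.length R L = (k + m : ℕ) := by
    rw [Module.length_eq_add_of_exact f g hf hg (LinearMap.exact_iff.2 hfg.symm), hk, hm, Nat.cast_add]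
  obtain ⟨bK, hbKa, hbKn, hbK0, hbKs⟩ := span_eq_top (R := R) hk
  obtain ⟨bM, hbMa, hbMn, hbM0, hbMs⟩ := span_eq_top (R := R) hm
  obtain ⟨bL, _, _, hbL0, hbLs⟩ := span_eq_top (R := R) hl
  let sec := Function.surjInv hg
  have hsec : ∀ y, g (sec y) = y := Function.surjInv_eq hg
  have hF : ∀ t : Fin k → K, IsAdmissible R K t → Nondeg (R := R) t →
      LinearMap.ker g = spanBefore R L (f ∘ t) k := fun t ht hn => by
    rw [F_map, F_top t le_rfl, (nondeg_iff_span hk ht).1 hn, Submodule.map_top, hfg]
  obtain ⟨ψK, hψK⟩ := exists_pre_left (R := R) hl hk f hf (sec ∘ bM) (fun j r hr => by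
    have h1 : g (r • (sec ∘ bM) j) ∈ (spanBefore R L (sec ∘ bM) j).map g := by
      rw [← F_map, map_smul, Function.comp_apply, hsec, show g ∘ sec ∘ bM = bM from funext fun i => hsec _]
      exact hbMa j r hr
    rw [← Submodule.mem_comap, Submodule.comap_map_eq] at h1
    rw [hfg, sup_comm]
    exact h1)
  obtain ⟨φK, hφK⟩ := exists_equiv_self hbK0 hbKs
  obtain ⟨φM, hφM⟩ := exists_equiv_self hbM0 hbMs
  obtain ⟨φL, hφL⟩ := exists_equiv_self hbL0 hbLs
  have hc0 : ψK (cls bK) ≠ 0 := by
    rw [hψK bK hbKa hbKn]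
    have ha := admissible_append_sec hsec (isAdmissible_map f hbKa) (hF bK hbKa hbKn).le hbMa
    have hnd : Nondeg (R := R) (Fin.append (f ∘ bK) (sec ∘ bM)) := by
      rw [nondeg_iff_span hl ha, ← F_top _ le_rfl, F_append_right, ← hF bK hbKa hbKn, eq_top_iff]
      intro x _
      have h1 : g x ∈ (spanBefore R L (sec ∘ bM) m).map g := by
        rw [← F_map, show g ∘ sec ∘ bM = bM from funext fun i => hsec _, F_top bM le_rfl,
          (nondeg_iff_span hm hbMa).1 hbMn]
        exact Submodule.mem_top
      rw [← Submodule.mem_comap, Submodule.comap_map_eq, sup_comm] at h1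
      exact h1
    rw [cls_eq ⟨_, ha⟩]
    exact symbol_ne_zero hl ⟨_, ha⟩ hnd
  have hu : φL (ψK (cls bK)) ≠ 0 := fun h => hc0 (φL.map_eq_zero_iff.1 h)
  let γ := (((TensorProduct.congr φK φM).trans (TensorProduct.lid _ _)).trans
    (LinearEquiv.smulOfNeZero (ResidueField R) (ResidueField R) _ hu)).trans φL.symm
  refine ⟨γ, fun eK eM eL hK hL1 hL2 => ?_⟩
  have hKn : Nondeg (R := R) eK.1 := by
    by_contra h
    exact hK (by rw [← cls_eq]; exact cls_degen h)
  rw [← cls_eq, ← cls_eq, ← cls_eq]
  obtain ⟨α, hα⟩ := Submodule.mem_span_singleton.1 (hbKs.ge (Submodule.mem_top : cls eK.1 ∈ ⊤))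
  obtain ⟨β, hβ⟩ := Submodule.mem_span_singleton.1 (hbMs.ge (Submodule.mem_top : cls eM.1 ∈ ⊤))
  obtain ⟨ψM, hψM⟩ := exists_pre (R := R) (l := m) hsec (isAdmissible_map f eK.2) (hF eK.1 eK.2 hKn)
  have hL : eL.1 = Fin.append (f ∘ eK.1) (fun j => eL.1 (Fin.natAdd k j)) := funext fun x => by
    induction x using Fin.addCases with
    | left i => rw [Fin.append_left]; exact hL1 i
    | right i => rw [Fin.append_right]
  have hgh : (g ∘ fun j => eL.1 (Fin.natAdd k j)) = eM.1 := funext fun j => hL2 j
  have h1 : cls eL.1 = β • (α • ψK (cls bK)) := by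
    conv_lhs => rw [hL]
    rw [append_congr (q := g) (sec := sec) hsec (hF eK.1 eK.2 hKn) (hL ▸ eL.2), hgh, ← hψM eM.1 eM.2, ← hβ,
      map_smul, hψM bM hbMa, ← hψK eK.1 eK.2 hKn, ← hα, map_smul]
  rw [h1, ← φL.injective.eq_iff, map_smul, map_smul]
  simp only [γ, LinearEquiv.trans_apply, TensorProduct.congr_tmul, TensorProduct.lid_tmul,
    LinearEquiv.smulOfNeZero_apply, LinearEquiv.apply_symm_apply, ← hα, ← hβ, map_smul, hφK, hφM, smul_eq_mul,
    mul_one]
  ring

theorem exists_equiv_exterior {M : Type v} [AddCommGroup M] [Module R M] [Module (ResidueField R) M]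
    [IsScalarTower R (ResidueField R) M] [Module.Finite (ResidueField R) M] {l : ℕ}
    (hl : Module.length R M = l) :
    ∃ Φ : DetOfLen R M l ≃ₗ[ResidueField R] (⋀[ResidueField R]^l M),
      ∀ e : Adm R M l, Φ (Submodule.Quotient.mk (sym R M e)) = exteriorPower.ιMulti (ResidueField R) l e.1 := by
  classical
  let κ := ResidueField R
  let ι : M [⋀^Fin l]→ₗ[κ] (⋀[κ]^l M) := exteriorPower.ιMulti κ l
  have hres : ∀ (r : R) (x : M), residue R r • x = r • x := fun r x => by
    rw [← IsScalarTower.algebraMap_smul (ResidueField R) r x]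
    rfl
  have hzero : ∀ (t : Fin l → M) (a : Fin l) (y : M), y ∈ spanBefore R M t a → ι (Function.update t a y) = 0 := by
    intro t a y hy
    induction hy using Submodule.span_induction with
    | mem x hx =>
      obtain ⟨j, hj, rfl⟩ := hx
      have hja : j ≠ a := fun h => by subst h; exact lt_irrefl (j : ℕ) hj
      refine ι.map_eq_zero_of_eq _ (i := j) (j := a) ?_ hja
      rw [Function.update_self, Function.update_of_ne hja]
    | zero => exact ι.map_coord_zero a (Function.update_self a 0 t)
    | add x y _ _ hx hy => rw [ι.map_update_add, hx, hy, add_zero]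
    | smul r x _ hx => rw [← hres, ι.map_update_smul, hx, smul_zero]
  obtain ⟨Φ, hΦ⟩ := exists_lift (R := R) (M := M) (l := l) (fun t => ι t)
    (fun t _ hn => by
      obtain ⟨a, ha⟩ := not_forall.1 hn
      have := hzero t a (t a) (not_not.1 ha)
      rwa [Function.update_eq_self] at this)
    (fun t t' a c _ _ hj hc => by
      have e1 : t = Function.update t a ((t a - (c : R) • t' a) + (c : R) • t' a) := by
        rw [sub_add_cancel, Function.update_eq_self]
      have e2 : Function.update t a (t' a) = t' := funext fun j => by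
        rcases eq_or_ne j a with rfl | h
        · rw [Function.update_self]
        · rw [Function.update_of_ne h, hj j h]
      show ι t = _
      conv_lhs => rw [e1]
      rw [ι.map_update_add, hzero t a _ hc, zero_add, ← hres, ι.map_update_smul, e2])
    (fun t a b _ hab _ => ι.map_swap t (fun h => by subst h; omega))
  have hall : ∀ t : Fin l → M, IsAdmissible R M t := fun t i r hr => by
    rw [← hres, (residue_eq_zero_iff r).2 hr, zero_smul]
    exact Submodule.zero_mem _
  have hsurj : Function.Surjective Φ := by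
    rw [← LinearMap.range_eq_top, eq_top_iff, ← exteriorPower.ιMulti_span κ l M, Submodule.span_le]
    rintro _ ⟨t, rfl⟩
    exact ⟨cls t, hΦ t (hall t)⟩
  obtain ⟨b, hba, hbn, hb0, hbs⟩ := span_eq_top (R := R) hl
  have hdim : Module.finrank κ M = l := by
    have h1 : Module.length R M = Module.length κ M :=
      Module.length_eq_of_surjective (residue_surjective (R := R))
    rw [hl, Module.length_eq_finrank] at h1
    exact_mod_cast h1.symm
  have hne : Module.finrank κ (⋀[κ]^l M) = 1 := by
    rw [exteriorPower.finrank_eq, hdim, Nat.choose_self]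
  have hΦb : Φ (cls b) ≠ 0 := fun h => by
    have : Nontrivial (⋀[κ]^l M) := Module.nontrivial_of_finrank_pos (R := κ) (by rw [hne]; exact one_pos)
    obtain ⟨y, hy⟩ := exists_ne (0 : ⋀[κ]^l M)
    obtain ⟨x, rfl⟩ := hsurj y
    obtain ⟨a, rfl⟩ := Submodule.mem_span_singleton.1 (hbs.ge (Submodule.mem_top : x ∈ ⊤))
    exact hy (by rw [map_smul, h, smul_zero])
  have hinj : Function.Injective Φ := (injective_iff_map_eq_zero Φ).2 fun x hx => by
    obtain ⟨a, rfl⟩ := Submodule.mem_span_singleton.1 (hbs.ge (Submodule.mem_top : x ∈ ⊤))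
    rw [map_smul, smul_eq_zero] at hx
    rw [hx.resolve_right hΦb, zero_smul]
  exact ⟨LinearEquiv.ofBijective Φ ⟨hinj, hsurj⟩, fun e => by
    rw [← cls_eq]; exact hΦ e.1 e.2⟩

end CycDet29

end
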