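import Groth.Agent.Lib.CycDet29.Basic

/-!
# A non-vanishing functional on the determinant
-/

set_option autoImplicit false
set_option linter.style.haveILetI false

universe u v w

noncomputable section

namespace CycDet29

open CycDet IsLocalRing

variable {R : Type u} [CommRing R] [IsLocalRing R]

/-- the rules defining the determinant, for a function on tuples -/
structure IsGood {M : Type v} [AddCommGroup M] [Module R M] {l : ℕ} (D : (Fin l → M) → ResidueField R) : Prop where
  degen : ∀ e, IsAdmissible R M e → ¬ Nondeg (R := R) e → D e = 0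
  modify : ∀ (e e' : Fin l → M) (a : Fin l) (c : Rˣ), IsAdmissible R M e → IsAdmissible R M e' →
    (∀ j, j ≠ a → e j = e' j) → e a - (c : R) • e' a ∈ spanBefore R M e a →
    D e = residue R (c : R) * D e'
  swap : ∀ (e : Fin l → M) (a b : Fin l), IsAdmissible R M e → (b : ℕ) + 1 = a →
    (∀ r ∈ maximalIdeal R, r • e a ∈ spanBefore R M e b) → D (e ∘ Equiv.swap a b) = -D e
  ne_zero : ∀ e, IsAdmissible R M e → Nondeg (R := R) e → D e ≠ 0

lemma succAbove_val {l : ℕ} (p : Fin (l + 1)) (k : Fin l) :
    (p.succAbove k : ℕ) = if (k : ℕ) < p then (k : ℕ) else k + 1 := by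
  split_ifs with h
  · rw [Fin.succAbove_of_castSucc_lt _ _ h, Fin.val_castSucc]
  · rw [Fin.succAbove_of_le_castSucc _ _ (not_lt.1 h), Fin.val_succ]

lemma succAbove_lt_iff {l : ℕ} (p : Fin (l + 1)) (k k' : Fin l) :
    (p.succAbove k : ℕ) < p.succAbove k' ↔ (k : ℕ) < k' := by
  rw [succAbove_val, succAbove_val]
  split_ifs <;> omega

section Step

variable {M : Type v} [AddCommGroup M] [Module R M] {l : ℕ} {g : M}

local notation "F" => CycDet.spanBefore R M

variable (g) in
/-- `i` is the first index with `g` in the span up to `i`, with coefficient `c` -/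
def Ix (f : Fin (l + 1) → M) (i : Fin (l + 1)) (c : R) : Prop :=
  g ∉ F f i ∧ IsUnit c ∧ f i - c • g ∈ F f i

lemma g_mem_succ {f : Fin (l + 1) → M} {i : Fin (l + 1)} {c : R} (h : Ix g f i c) : g ∈ F f ((i : ℕ) + 1) := by
  rw [F_succ]
  have : c • g ∈ F f i ⊔ R ∙ f i := by
    rw [show c • g = -(f i - c • g) + f i by abel]
    exact Submodule.add_mem_sup (neg_mem h.2.2) (Submodule.mem_span_singleton_self _)
  exact (Submodule.smul_mem_iff_of_isUnit _ h.2.1).1 this

lemma Ix_unique {f : Fin (l + 1) → M} {i i' : Fin (l + 1)} {c c' : R}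
    (h : Ix g f i c) (h' : Ix g f i' c') : i = i' ∧ residue R c = residue R c' := by
  have hi : i = i' := by
    rcases lt_trichotomy (i : ℕ) i' with hlt | he | hlt
    · exact absurd (F_mono f hlt (g_mem_succ h)) h'.1
    · exact Fin.ext he
    · exact absurd (F_mono f hlt (g_mem_succ h')) h.1
  refine ⟨hi, ?_⟩
  subst hi
  rw [← sub_eq_zero, ← map_sub, residue_eq_zero_iff]
  by_contra hne
  have : (c - c') • g ∈ F f i := by
    rw [show (c - c') • g = (f i - c' • g) - (f i - c • g) by rw [sub_smul]; abel]
    exact sub_mem h'.2.2 h.2.2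
  exact h.1 ((Submodule.smul_mem_iff_of_isUnit _ (isUnit_of_not_mem hne)).1 this)

lemma exists_Ix {f : Fin (l + 1) → M} (hf : IsAdmissible R M f) (hg : g ∈ Submodule.span R (Set.range f))
    (hg0 : g ≠ 0) : ∃ (i : Fin (l + 1)) (c : R), Ix g f i c := by
  classical
  have hex : ∃ j, g ∈ F f j := ⟨l + 1, by rw [F_top f le_rfl]; exact hg⟩
  obtain ⟨i, hi⟩ : ∃ i, Nat.find hex = i + 1 := Nat.exists_eq_succ_of_ne_zero fun h => hg0 (by
    have := Nat.find_spec hex
    rw [h, F_zero, Submodule.mem_bot] at this
    exact this)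
  have hspec := Nat.find_spec hex
  have hmin : g ∉ F f i := Nat.find_min hex (by omega)
  rw [hi] at hspec
  have hil : i < l + 1 := by
    by_contra hcon
    exact hmin (by rwa [F_top f (by omega), ← F_top f (show l + 1 ≤ i + 1 by omega)])
  rw [F_succ f ⟨i, hil⟩] at hspec
  obtain ⟨u, hu, w, hw, huw⟩ := Submodule.mem_sup.1 hspec
  obtain ⟨t, rfl⟩ := Submodule.mem_span_singleton.1 hw
  have ht : t ∉ maximalIdeal R := fun ht => hmin (by
    rw [← huw]
    exact add_mem hu (hf ⟨i, hil⟩ t ht))
  obtain ⟨t, rfl⟩ := isUnit_of_not_mem ht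
  refine ⟨⟨i, hil⟩, ↑t⁻¹, hmin, Units.isUnit _, ?_⟩
  rw [← huw, smul_add, smul_smul, Units.inv_mul, one_smul]
  show f ⟨i, hil⟩ - ((↑t⁻¹ : R) • u + f ⟨i, hil⟩) ∈ _
  rw [sub_add_cancel_right]
  exact neg_mem (Submodule.smul_mem _ _ hu)

variable (g) in
/-- delete the `i`-th entry and pass to `M ⧸ R g` -/
def del (f : Fin (l + 1) → M) (i : Fin (l + 1)) : Fin l → M ⧸ (R ∙ g) :=
  (R ∙ g).mkQ ∘ (f ∘ i.succAbove)

lemma mem_map_mkQ {N : Submodule R M} {x : M} :
    (R ∙ g).mkQ x ∈ N.map (R ∙ g).mkQ ↔ x ∈ N ⊔ R ∙ g := by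
  rw [← Submodule.mem_comap, Submodule.comap_map_eq, Submodule.ker_mkQ]

lemma F_del {f : Fin (l + 1) → M} {i : Fin (l + 1)} {c : R} (h : Ix g f i c) (a : Fin l) :
    spanBefore R (M ⧸ (R ∙ g)) (del g f i) a = (F f (i.succAbove a)).map (R ∙ g).mkQ := by
  rw [del, F_map]
  refine le_antisymm (Submodule.map_mono ((F_le_iff _).2 fun k hk =>
    mem_F f (show (i.succAbove k : ℕ) < i.succAbove a from (succAbove_lt_iff i k a).2 hk))) ?_
  rw [Submodule.map_le_iff_le_comap, Submodule.comap_map_eq, Submodule.ker_mkQ, F_le_iff]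
  have hne : ∀ k : Fin (l + 1), k ≠ i → (k : ℕ) < i.succAbove a → f k ∈ F (f ∘ i.succAbove) a := fun k hk hka => by
    obtain ⟨k', rfl⟩ := Fin.exists_succAbove_eq hk
    exact mem_F (f ∘ i.succAbove) ((succAbove_lt_iff i k' a).1 hka)
  intro k hk
  by_cases hki : k = i
  · subst hki
    rw [show f k = (f k - c • g) + c • g from (sub_add_cancel _ _).symm]
    refine Submodule.add_mem_sup ?_ (Submodule.smul_mem _ _ (Submodule.mem_span_singleton_self _))
    refine (F_le_iff f).2 (fun j hj => hne j (fun e => by subst e; omega) (by omega)) h.2.2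
  · exact Submodule.mem_sup_left (hne k hki hk)

lemma admissible_del {f : Fin (l + 1) → M} (hf : IsAdmissible R M f) {i : Fin (l + 1)} {c : R}
    (h : Ix g f i c) : IsAdmissible R (M ⧸ (R ∙ g)) (del g f i) := fun a r hr => by
  rw [F_del h, del, Function.comp_apply, Function.comp_apply, ← map_smul]
  exact Submodule.mem_map_of_mem (hf (i.succAbove a) r hr)

lemma nondeg_del (hmg : ∀ r ∈ maximalIdeal R, r • g = 0) {f : Fin (l + 1) → M}
    (hn : Nondeg (R := R) f) {i : Fin (l + 1)} {c : R} (h : Ix g f i c) :
    Nondeg (R := R) (del (R := R) g f i) := fun a ha => by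
  rw [F_del h, del, Function.comp_apply, Function.comp_apply, mem_map_mkQ] at ha
  have hne : (i.succAbove a : ℕ) ≠ i := fun e => Fin.succAbove_ne i a (Fin.ext e)
  rcases lt_or_gt_of_ne hne with hlt | hgt
  · obtain ⟨u, hu, w, hw, huw⟩ := Submodule.mem_sup.1 ha
    obtain ⟨t, rfl⟩ := Submodule.mem_span_singleton.1 hw
    have ht : t ∉ maximalIdeal R := fun ht => hn (i.succAbove a) (by rwa [← huw, hmg t ht, add_zero])
    refine h.1 ((Submodule.smul_mem_iff_of_isUnit _ (isUnit_of_not_mem ht)).1 ?_)
    rw [show t • g = f (i.succAbove a) - u by rw [← huw]; abel]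
    exact sub_mem (mem_F f hlt) (F_mono f hlt.le hu)
  · rw [sup_eq_left.2 ((Submodule.span_singleton_le_iff_mem _ _).2 (F_mono f hgt (g_mem_succ h)))] at ha
    exact hn _ ha

variable (Db : (Fin l → M ⧸ (R ∙ g)) → ResidueField R)

open scoped Classical in
/-- the functional one length up -/
def up (f : Fin (l + 1) → M) : ResidueField R :=
  if h : Nondeg (R := R) f ∧ ∃ (i : Fin (l + 1)) (c : R), Ix g f i c then
    (-1) ^ (h.2.choose : ℕ) * residue R h.2.choose_spec.choose * Db (del g f h.2.choose)
  else 0

lemma up_eq {f : Fin (l + 1) → M} (hn : Nondeg (R := R) f) {i : Fin (l + 1)} {c : R} (h : Ix g f i c) :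
    up Db f = (-1) ^ (i : ℕ) * residue R c * Db (del g f i) := by
  have h' : Nondeg (R := R) f ∧ ∃ (i : Fin (l + 1)) (c : R), Ix g f i c := ⟨hn, i, c, h⟩
  obtain ⟨h1, h2⟩ := Ix_unique h'.2.choose_spec.choose_spec h
  rw [up, dif_pos h', h2, h1]

lemma up_degen {f : Fin (l + 1) → M} (hn : ¬ Nondeg (R := R) f) : up Db f = 0 :=
  dif_neg fun h => hn h.1

lemma isGood_up (hl : Module.length R M = (l + 1 : ℕ)) (hg0 : g ≠ 0) (hmg : ∀ r ∈ maximalIdeal R, r • g = 0)
    (hDb : IsGood (R := R) Db) : IsGood (R := R) (up (g := g) Db) := by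
  have hspan : ∀ f : Fin (l + 1) → M, IsAdmissible R M f → Nondeg (R := R) f → ∃ (i : Fin (l + 1)) (c : R), Ix g f i c :=
    fun f hf hn => exists_Ix hf (by rw [(nondeg_iff_span hl hf).1 hn]; exact Submodule.mem_top) hg0
  refine ⟨fun e _ hn => up_degen Db hn, ?_, ?_, ?_⟩
  · intro e e' a c he he' hj hc
    have hmod := modify_single hj hc
    by_cases hn : Nondeg (R := R) e
    swap
    · rw [up_degen Db hn, up_degen Db (fun h => hn ((nondeg_modify hmod).2 h)), mul_zero]
    have hn' := (nondeg_modify hmod).1 hn
    obtain ⟨i, d, hix⟩ := hspan e' he' hn'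
    by_cases hai : i = a
    · subst hai
      have hix' : Ix g e i ((c : R) * d) := by
        refine ⟨by rw [F_modify hmod]; exact hix.1, c.isUnit.mul hix.2.1, ?_⟩
        rw [show e i - ((c : R) * d) • g = (e i - (c : R) • e' i) + (c : R) • (e' i - d • g) by
          rw [smul_sub, smul_smul]; abel]
        refine add_mem hc (Submodule.smul_mem _ _ ?_)
        rw [F_modify hmod]; exact hix.2.2
      have hdel : del g e i = del g e' i := funext fun k => by
        show (R ∙ g).mkQ (e (i.succAbove k)) = (R ∙ g).mkQ (e' (i.succAbove k))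
        rw [hj _ (Fin.succAbove_ne i k)]
      rw [up_eq Db hn hix', up_eq Db hn' hix, hdel, map_mul]
      ring
    · have hix' : Ix g e i d := ⟨by rw [F_modify hmod]; exact hix.1, hix.2.1, by
        rw [hj i hai, F_modify hmod]; exact hix.2.2⟩
      obtain ⟨a', ha'⟩ := Fin.exists_succAbove_eq (Ne.symm hai)
      have hdel := hDb.modify (del g e i) (del g e' i) a' c (admissible_del he hix') (admissible_del he' hix)
        (fun k hk => by
          show (R ∙ g).mkQ (e (i.succAbove k)) = (R ∙ g).mkQ (e' (i.succAbove k))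
          rw [hj _ (fun h => hk (Fin.succAbove_right_injective (h.trans ha'.symm)))])
        (by
          rw [F_del hix', ha']
          show (R ∙ g).mkQ (e (i.succAbove a')) - (c : R) • (R ∙ g).mkQ (e' (i.succAbove a')) ∈ _
          rw [ha', ← map_smul, ← map_sub]
          exact Submodule.mem_map_of_mem hc)
      rw [up_eq Db hn hix', up_eq Db hn' hix, hdel]
      ring
  · intro e a b he hab hm
    let e' := e ∘ Equiv.swap a b
    have he' : IsAdmissible R M e' := admissible_swap he hab hm
    have hnn : Nondeg (R := R) e' ↔ Nondeg (R := R) e := by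
      rw [nondeg_iff_span hl he', nondeg_iff_span hl he, Set.range_comp, (Equiv.swap a b).surjective.range_eq,
        Set.image_univ]
    by_cases hn : Nondeg (R := R) e
    swap
    · rw [up_degen Db hn, neg_zero]
      exact up_degen Db (fun h => hn (hnn.1 h))
    have hn' := hnn.2 hn
    have hFa : F e' a = F e b ⊔ R ∙ e a := F_swap_self hab
    have hFb : F e' b = F e b := F_swap hab (by omega)
    have hea : e' a = e b := by simp [e']
    have heb : e' b = e a := by simp [e']
    have hFea : F e a = F e b ⊔ R ∙ e b := by rw [← hab]; exact F_succ e b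
    have fstCase : ∀ (f : Fin (l + 1) → M) (d : R), IsAdmissible R M f → Nondeg (R := R) f →
        Nondeg (R := R) (f ∘ Equiv.swap a b) → (∀ r ∈ maximalIdeal R, r • f a ∈ F f b) → Ix g f b d →
        up Db (f ∘ Equiv.swap a b) = -up Db f := by
      intro f d hf hfn hfn' hfm hfix
      have hFfa : F (f ∘ Equiv.swap a b) a = F f b ⊔ R ∙ f a := F_swap_self hab
      have hix' : Ix g (f ∘ Equiv.swap a b) a d := by
        refine ⟨fun hmem => ?_, hfix.2.1, ?_⟩
        · rw [hFfa] at hmem
          obtain ⟨u, hu, w, hw, huw⟩ := Submodule.mem_sup.1 hmem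
          obtain ⟨t, rfl⟩ := Submodule.mem_span_singleton.1 hw
          have ht : t ∉ maximalIdeal R := fun ht => hfix.1 (by rw [← huw]; exact add_mem hu (hfm t ht))
          refine hfn a ((Submodule.smul_mem_iff_of_isUnit _ (isUnit_of_not_mem ht)).1 ?_)
          rw [show t • f a = g - u by rw [← huw]; abel]
          exact sub_mem (hab ▸ g_mem_succ hfix) (F_mono f (by omega) hu)
        · rw [hFfa]
          refine Submodule.mem_sup_left ?_
          rw [Function.comp_apply, Equiv.swap_apply_left]
          exact hfix.2.2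
      have hdel : del g (f ∘ Equiv.swap a b) a = del g f b := funext fun k => by
        show (R ∙ g).mkQ (f (Equiv.swap a b (a.succAbove k))) = (R ∙ g).mkQ (f (b.succAbove k))
        congr 2
        by_cases hkb : (k : ℕ) = b
        · rw [show a.succAbove k = b from Fin.ext (by rw [succAbove_val, if_pos (by omega), hkb]),
            Equiv.swap_apply_right]
          exact Fin.ext (by rw [succAbove_val, if_neg (by omega)]; omega)
        · rw [Equiv.swap_apply_of_ne_of_ne (Fin.succAbove_ne a k) (fun hc => hkb (by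
            have := congrArg Fin.val hc
            rw [succAbove_val] at this
            split_ifs at this <;> omega))]
          exact Fin.ext (by rw [succAbove_val, succAbove_val]; split_ifs <;> omega)
      rw [up_eq Db hfn' hix', up_eq Db hfn hfix, hdel, ← hab, pow_succ]
      ring
    obtain ⟨i, d, hix⟩ := hspan e he hn
    by_cases hib : i = b
    · subst hib
      exact fstCase e d he hn hn' hm hix
    by_cases hia : i = a
    · subst hia
      have hdmem := hix.2.2
      rw [hFea] at hdmem
      obtain ⟨u, hu, w, hw, huw⟩ := Submodule.mem_sup.1 hdmem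
      obtain ⟨s, rfl⟩ := Submodule.mem_span_singleton.1 hw
      have hgb : g ∉ F e b := fun h => hix.1 (by rw [hFea]; exact Submodule.mem_sup_left h)
      by_cases hs : s ∈ maximalIdeal R
      · have hixb : Ix g e' b d := by
          refine ⟨by rw [hFb]; exact hgb, hix.2.1, ?_⟩
          rw [hFb, heb, ← huw]
          exact add_mem hu (he b s hs)
        have hee : e' ∘ Equiv.swap i b = e := funext fun x => by simp [e']
        have := fstCase e' d he' hn' (by rw [hee]; exact hn)
          (fun r hr => by rw [hea, hFb]; exact he b r hr) hixb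
        rw [hee] at this
        show up Db e' = _
        rw [this, neg_neg]
      · obtain ⟨s, rfl⟩ := isUnit_of_not_mem hs
        have hgi : g ∉ F e' i := fun hmem => by
          rw [hFa] at hmem
          obtain ⟨u', hu', w', hw', huw'⟩ := Submodule.mem_sup.1 hmem
          obtain ⟨t, rfl⟩ := Submodule.mem_span_singleton.1 hw'
          have htm : t ∉ maximalIdeal R := fun ht => hgb (by rw [← huw']; exact add_mem hu' (hm t ht))
          obtain ⟨t, rfl⟩ := isUnit_of_not_mem htm
          have key : (1 - (t : R) * d) • g - ((t : R) * (s : R)) • e b = u' + (t : R) • u := by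
            have e1 : (t : R) • e i = g - u' := by rw [← huw']; abel
            have e2 : (t : R) • (e i - d • g) = (t : R) • u + ((t : R) * (s : R)) • e b := by
              rw [← huw, smul_add, smul_smul]
            rw [smul_sub, e1, smul_smul] at e2
            rw [sub_smul, one_smul]
            linear_combination (norm := abel) e2
          have kmem : (1 - (t : R) * d) • g - ((t : R) * (s : R)) • e b ∈ F e b :=
            key ▸ add_mem hu' (Submodule.smul_mem _ _ hu)
          by_cases hnu : (1 - (t : R) * d) ∈ maximalIdeal R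
          · rw [hmg _ hnu, zero_sub, Submodule.neg_mem_iff] at kmem
            exact hn b ((Submodule.smul_mem_iff_of_isUnit _ (t.isUnit.mul s.isUnit)).1 kmem)
          · refine hix.1 ((Submodule.smul_mem_iff_of_isUnit _ (isUnit_of_not_mem hnu)).1 ?_)
            rw [hFea, show (1 - (t : R) * d) • g =
              ((1 - (t : R) * d) • g - ((t : R) * (s : R)) • e b) + ((t : R) * (s : R)) • e b from
                (sub_add_cancel _ _).symm]
            exact Submodule.add_mem_sup kmem (Submodule.smul_mem _ _ (Submodule.mem_span_singleton_self _))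
        have hix2 : Ix g e' i (-(↑s⁻¹ * d)) := by
          refine ⟨hgi, (Units.isUnit _).mul hix.2.1 |>.neg, ?_⟩
          rw [hFa, hea]
          have : e b - (-(↑s⁻¹ * d)) • g = (-(↑s⁻¹ : R)) • u + (↑s⁻¹ : R) • e i := by
            have e1 : (↑s⁻¹ : R) • (e i - d • g) = (↑s⁻¹ : R) • u + e b := by
              rw [← huw, smul_add, smul_smul, Units.inv_mul, one_smul]
            rw [smul_sub, smul_smul] at e1
            rw [neg_smul, neg_smul, sub_neg_eq_add]
            linear_combination (norm := abel) -e1
          rw [this]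
          exact Submodule.add_mem_sup (Submodule.smul_mem _ _ hu)
            (Submodule.smul_mem _ _ (Submodule.mem_span_singleton_self _))
        obtain ⟨b', hb'⟩ := Fin.exists_succAbove_eq (show b ≠ i from Ne.symm hib)
        have hdel := hDb.modify (del g e' i) (del g e i) b' s (admissible_del he' hix2) (admissible_del he hix)
          (fun k hk => by
            show (R ∙ g).mkQ (e (Equiv.swap i b (i.succAbove k))) = (R ∙ g).mkQ (e (i.succAbove k))
            rw [Equiv.swap_apply_of_ne_of_ne (Fin.succAbove_ne i k)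
              (fun h => hk (Fin.succAbove_right_injective (h.trans hb'.symm)))])
          (by
            rw [F_del hix2, hb', hFb]
            show (R ∙ g).mkQ (e' (i.succAbove b')) - (s : R) • (R ∙ g).mkQ (e (i.succAbove b')) ∈ _
            rw [hb', heb, ← map_smul, ← map_sub, mem_map_mkQ,
              show e i - (s : R) • e b = u + d • g by rw [sub_eq_iff_eq_add.1 huw.symm]; abel]
            exact Submodule.add_mem_sup hu (Submodule.smul_mem _ _ (Submodule.mem_span_singleton_self _)))
        show up Db e' = _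
        rw [up_eq Db hn' hix2, up_eq Db hn hix, hdel, map_neg, map_mul]
        have hinv : residue R (↑s⁻¹ : R) * residue R (s : R) = 1 := by rw [← map_mul, Units.inv_mul, map_one]
        linear_combination (-(-1) ^ (i : ℕ) * residue R d * Db (del g e i)) * hinv
    · have hia' : (i : ℕ) ≠ a := fun h => hia (Fin.ext h)
      have hei : e' i = e i := by
        show e (Equiv.swap a b i) = e i
        rw [Equiv.swap_apply_of_ne_of_ne hia hib]
      have hix' : Ix g e' i d := ⟨by rw [F_swap hab hia']; exact hix.1, hix.2.1, by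
        rw [hei, F_swap hab hia']; exact hix.2.2⟩
      obtain ⟨a', ha'⟩ := Fin.exists_succAbove_eq (Ne.symm hia)
      obtain ⟨b', hb'⟩ := Fin.exists_succAbove_eq (Ne.symm hib)
      have hva := congrArg Fin.val ha'
      have hvb := congrArg Fin.val hb'
      rw [succAbove_val] at hva hvb
      have hib' : (i : ℕ) ≠ b := fun h => hib (Fin.ext h)
      have hab' : (b' : ℕ) + 1 = a' := by split_ifs at hva hvb <;> omega
      have hdel : del g e' i = del g e i ∘ Equiv.swap a' b' := funext fun k => by
        show (R ∙ g).mkQ (e (Equiv.swap a b (i.succAbove k))) = (R ∙ g).mkQ (e (i.succAbove (Equiv.swap a' b' k)))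
        rw [Fin.succAbove_right_injective.map_swap, ha', hb']
      have := hDb.swap (del g e i) a' b' (admissible_del he hix) hab' (fun r hr => by
        rw [F_del hix, hb']
        show r • (R ∙ g).mkQ (e (i.succAbove a')) ∈ _
        rw [ha', ← map_smul]
        exact Submodule.mem_map_of_mem (hm r hr))
      show up Db e' = _
      rw [up_eq Db hn' hix', up_eq Db hn hix, hdel, this]
      ring
  · intro e he hn
    obtain ⟨i, d, hix⟩ := hspan e he hn
    rw [up_eq Db hn hix]
    refine mul_ne_zero (mul_ne_zero (pow_ne_zero _ (neg_ne_zero.2 one_ne_zero)) ?_)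
      (hDb.ne_zero _ (admissible_del he hix) (nondeg_del hmg hn hix))
    exact (residue_ne_zero_iff_isUnit d).2 hix.2.1

end Step

theorem exists_isGood : ∀ (l : ℕ) (M : Type v) [AddCommGroup M] [Module R M],
    Module.length R M = l → ∃ D : (Fin l → M) → ResidueField R, IsGood (R := R) D := by
  intro l
  induction l with
  | zero =>
    intro M _ _ _
    exact ⟨fun _ => 1, ⟨fun e _ h => absurd (fun a : Fin 0 => a.elim0) h, fun _ _ a => a.elim0,
      fun _ a => a.elim0, fun _ _ _ => one_ne_zero⟩⟩
  | succ l ih =>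
    intro M _ _ hl
    obtain ⟨e, he, hn⟩ := exists_nondeg (R := R) hl (l + 1) le_rfl
    let g := e 0
    have hg0 : g ≠ 0 := fun h => hn 0 (by show g ∈ _; rw [h]; exact Submodule.zero_mem _)
    have hmg : ∀ r ∈ maximalIdeal R, r • g = 0 := fun r hr => by
      have := he 0 r hr
      rwa [Fin.val_zero, F_zero, Submodule.mem_bot] at this
    have hg1 : Module.length R ↥(R ∙ g) = 1 := by
      have h1 := length_F_eq he hn 1 (by omega)
      have h2 : spanBefore R M e 1 = R ∙ g := by
        have := F_succ (R := R) e 0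
        rwa [Fin.val_zero, zero_add, F_zero, bot_sup_eq] at this
      rw [h2] at h1
      exact_mod_cast h1
    have hq : Module.length R (M ⧸ (R ∙ g)) = l := by
      have := Module.length_eq_add_of_exact (R ∙ g).subtype (R ∙ g).mkQ (Submodule.subtype_injective _)
        (Submodule.mkQ_surjective _) (LinearMap.exact_subtype_mkQ _)
      rw [hl, hg1, Nat.cast_add, Nat.cast_one, add_comm (1 : ℕ∞)] at this
      exact (WithTop.add_right_cancel (ENat.natCast_ne_top 1) this).symm
    obtain ⟨Db, hDb⟩ := ih (M ⧸ (R ∙ g)) hq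
    exact ⟨up (g := g) Db, isGood_up Db (by exact_mod_cast hl) hg0 hmg hDb⟩

theorem symbol_ne_zero {M : Type v} [AddCommGroup M] [Module R M] {l : ℕ} (hl : Module.length R M = l)
    (e : Adm R M l) (he : Nondeg (R := R) e.1) :
    (Submodule.Quotient.mk (sym R M e) : DetOfLen R M l) ≠ 0 := by
  obtain ⟨D, hD⟩ := exists_isGood (R := R) l M hl
  let L : Free R M l →ₗ[ResidueField R] ResidueField R :=
    Finsupp.linearCombination (ResidueField R) fun x : Adm R M l => D x.1
  have hL : ∀ x : Adm R M l, L (sym R M x) = D x.1 := fun x => by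
    simp [L, sym, Finsupp.linearCombination_single]
  intro h
  rw [Submodule.Quotient.mk_eq_zero] at h
  have hker : Submodule.span (ResidueField R) (relSet R M l) ≤ LinearMap.ker L := by
    refine Submodule.span_le.2 fun x hx => ?_
    rcases hx with (⟨f, a, ha, rfl⟩ | ⟨f, f', a, c, hj, hc, rfl⟩) | ⟨f, f', a, b, hab, hm, hff', rfl⟩
    · show L _ = 0
      rw [hL]
      exact hD.degen f.1 f.2 fun hn => hn a ha
    · show L _ = 0
      rw [map_sub, map_smul, hL, hL, smul_eq_mul, sub_eq_zero]
      exact hD.modify f.1 f'.1 a c f.2 f'.2 hj hc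
    · show L _ = 0
      rw [map_add, hL, hL, hff', hD.swap f.1 a b f.2 hab hm, add_neg_cancel]
  exact hD.ne_zero e.1 e.2 he ((hL e).symm.trans (hker h))

end CycDet29

end
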