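import Groth.Agent.Lib.CycDet29.Functional

/-!
# The determinant is at most one-dimensional; concatenation of symbols
-/

set_option autoImplicit false
set_option linter.style.haveILetI false

universe u v w

noncomputable section

namespace CycDet29

open CycDet IsLocalRing

variable {R : Type u} [CommRing R] [IsLocalRing R] {M : Type v} [AddCommGroup M] [Module R M]

local notation "F" => CycDet.spanBefore R M

open scoped Classical in
/-- the symbol of a tuple, zero if it is not admissible -/
@[irreducible] def cls {l : ℕ} (f : Fin l → M) : DetOfLen R M l :=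
  if h : IsAdmissible R M f then Submodule.Quotient.mk (sym R M ⟨f, h⟩) else 0

lemma cls_eq {l : ℕ} (f : Adm R M l) : cls f.1 = (Submodule.Quotient.mk (sym R M f) : DetOfLen R M l) := by
  rw [cls, dif_pos f.2]
  rfl

lemma cls_degen {l : ℕ} {f : Fin l → M} (hn : ¬ Nondeg (R := R) f) : cls (R := R) f = 0 := by
  by_cases hf : IsAdmissible R M f
  · obtain ⟨a, ha⟩ := not_forall.1 hn
    rw [cls, dif_pos hf, Submodule.Quotient.mk_eq_zero]
    exact Submodule.subset_span (Or.inl (Or.inl ⟨⟨f, hf⟩, a, not_not.1 ha, rfl⟩))
  · rw [cls, dif_neg hf]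

lemma cls_modify {l : ℕ} {e e' : Fin l → M} (he : IsAdmissible R M e) (a : Fin l) (c : Rˣ)
    (hj : ∀ j, j ≠ a → e j = e' j) (hc : e a - (c : R) • e' a ∈ F e a) :
    cls (R := R) e = residue R (c : R) • cls (R := R) e' := by
  have he' := admissible_modify he (modify_single hj hc)
  rw [cls, dif_pos he, cls, dif_pos he', ← Submodule.Quotient.mk_smul, Submodule.Quotient.eq]
  exact Submodule.subset_span (Or.inl (Or.inr ⟨⟨e, he⟩, ⟨e', he'⟩, a, c, hj, hc, rfl⟩))

lemma cls_swap {l : ℕ} {e : Fin l → M} (he : IsAdmissible R M e) (a b : Fin l) (hab : (b : ℕ) + 1 = a)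
    (hm : ∀ r ∈ maximalIdeal R, r • e a ∈ F e b) : cls (R := R) (e ∘ Equiv.swap a b) = -cls (R := R) e := by
  have he' := admissible_swap he hab hm
  rw [cls, dif_pos he']
  rw [cls, dif_pos he, eq_neg_iff_add_eq_zero, add_comm, ← Submodule.Quotient.mk_add,
    Submodule.Quotient.mk_eq_zero]
  exact Submodule.subset_span (Or.inr ⟨⟨e, he⟩, ⟨_, he'⟩, a, b, hab, hm, rfl, rfl⟩)

/-- replace the first `k` entries of `e` by those of `e'` -/
def mixTup {l : ℕ} (e e' : Fin l → M) (k : ℕ) : Fin l → M := fun j => if (j : ℕ) < k then e' j else e j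

lemma cls_congr {l : ℕ} {e e' : Fin l → M} (he : IsAdmissible R M e) (h : ∀ j : Fin l, e j - e' j ∈ F e j) :
    cls (R := R) e = cls (R := R) e' := by
  have hmod : ∀ k, ∀ a : Fin l, ∃ c : Rˣ, e a - (c : R) • mixTup e e' k a ∈ F e a := fun k a => ⟨1, by
    rw [Units.val_one, one_smul]
    unfold mixTup
    by_cases hk : (a : ℕ) < k
    · rw [if_pos hk]; exact h a
    · rw [if_neg hk, sub_self]; exact Submodule.zero_mem _⟩
  have key : ∀ k, k ≤ l → cls (R := R) (mixTup e e' k) = cls (R := R) e := by
    intro k
    induction k with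
    | zero =>
      intro _
      have h0 : mixTup e e' 0 = e := funext fun j => if_neg (Nat.not_lt_zero _)
      rw [h0]
    | succ k ih =>
      intro hk
      have hadm : IsAdmissible R M (mixTup e e' k) := admissible_modify (e' := mixTup e e' k) he (hmod k)
      have hj : ∀ j : Fin l, j ≠ ⟨k, hk⟩ → mixTup e e' k j = mixTup e e' (k + 1) j := fun j hj => by
        have : (j : ℕ) ≠ k := fun e => hj (Fin.ext e)
        unfold mixTup
        by_cases h1 : (j : ℕ) < k
        · rw [if_pos h1, if_pos (by omega)]
        · rw [if_neg h1, if_neg (by omega)]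
      have h1 : mixTup e e' k ⟨k, hk⟩ = e ⟨k, hk⟩ := if_neg (lt_irrefl k)
      have h2 : mixTup e e' (k + 1) ⟨k, hk⟩ = e' ⟨k, hk⟩ := if_pos (Nat.lt_succ_self k)
      have hc : mixTup e e' k ⟨k, hk⟩ - ((1 : Rˣ) : R) • mixTup e e' (k + 1) ⟨k, hk⟩ ∈
          F (mixTup e e' k) (⟨k, hk⟩ : Fin l) := by
        rw [← F_modify (e' := mixTup e e' k) (hmod k), h1, h2, Units.val_one, one_smul]
        exact h ⟨k, hk⟩
      have hstep := cls_modify hadm ⟨k, hk⟩ 1 hj hc
      rw [Units.val_one, map_one, one_smul] at hstep
      rw [← hstep]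
      exact ih (by omega)
  have hl : mixTup e e' l = e' := funext fun j => if_pos j.2
  rw [← key l le_rfl, hl]

/-- a linear map out of the determinant from a function on tuples satisfying the rules -/
lemma exists_lift {P : Type w} [AddCommGroup P] [Module (ResidueField R) P] {l : ℕ} (S : (Fin l → M) → P)
    (h0 : ∀ e, IsAdmissible R M e → ¬ Nondeg (R := R) e → S e = 0)
    (h1 : ∀ (e e' : Fin l → M) (a : Fin l) (c : Rˣ), IsAdmissible R M e → IsAdmissible R M e' →
      (∀ j, j ≠ a → e j = e' j) → e a - (c : R) • e' a ∈ F e a → S e = residue R (c : R) • S e')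
    (h2 : ∀ (e : Fin l → M) (a b : Fin l), IsAdmissible R M e → (b : ℕ) + 1 = a →
      (∀ r ∈ maximalIdeal R, r • e a ∈ F e b) → S (e ∘ Equiv.swap a b) = -S e) :
    ∃ L : DetOfLen R M l →ₗ[ResidueField R] P, ∀ e : Fin l → M, IsAdmissible R M e → L (cls e) = S e := by
  let L0 : Free R M l →ₗ[ResidueField R] P := Finsupp.linearCombination (ResidueField R) fun x : Adm R M l => S x.1
  have hL : ∀ x : Adm R M l, L0 (sym R M x) = S x.1 := fun x => by
    simp [L0, sym, Finsupp.linearCombination_single]
  have hker : Submodule.span (ResidueField R) (relSet R M l) ≤ LinearMap.ker L0 := by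
    refine Submodule.span_le.2 fun x hx => ?_
    rcases hx with (⟨f, a, ha, rfl⟩ | ⟨f, f', a, c, hj, hc, rfl⟩) | ⟨f, f', a, b, hab, hm, hff', rfl⟩
    · show L0 _ = 0
      rw [hL]
      exact h0 f.1 f.2 fun hn => hn a ha
    · show L0 _ = 0
      rw [map_sub, map_smul, hL, hL, sub_eq_zero]
      exact h1 f.1 f'.1 a c f.2 f'.2 hj hc
    · show L0 _ = 0
      rw [map_add, hL, hL, hff', h2 f.1 a b f.2 hab hm, add_neg_cancel]
  refine ⟨Submodule.liftQ _ L0 hker, fun e he => ?_⟩
  rw [cls, dif_pos he, Submodule.liftQ_apply, hL]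

section Append

variable {k l : ℕ}

lemma F_append_left (p : Fin k → M) (h : Fin l → M) {i : ℕ} (hi : i ≤ k) :
    F (Fin.append p h) i = F p i := by
  refine le_antisymm ((F_le_iff _).2 fun j hj => ?_) ((F_le_iff _).2 fun j hj => ?_)
  · obtain ⟨j', rfl⟩ : ∃ j' : Fin k, Fin.castAdd l j' = j := ⟨⟨j, by omega⟩, rfl⟩
    rw [Fin.append_left]
    exact mem_F p hj
  · have := mem_F (R := R) (Fin.append p h) (j := Fin.castAdd l j) (i := i) hj
    rwa [Fin.append_left] at this

lemma F_append_right (p : Fin k → M) (h : Fin l → M) (j : ℕ) :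
    F (Fin.append p h) (k + j) = F p k ⊔ F h j := by
  refine le_antisymm ((F_le_iff _).2 fun x hx => ?_) (sup_le ?_ ((F_le_iff _).2 fun x hx => ?_))
  · induction x using Fin.addCases with
    | left a => rw [Fin.append_left]; exact Submodule.mem_sup_left (mem_F p a.2)
    | right b =>
      rw [Fin.append_right]
      exact Submodule.mem_sup_right (mem_F h (by simp only [Fin.val_natAdd] at hx; omega))
  · rw [← F_append_left p h le_rfl]
    exact F_mono _ (Nat.le_add_right k j)
  · have := mem_F (R := R) (Fin.append p h) (j := Fin.natAdd k x) (i := k + j) (by simp only [Fin.val_natAdd]; omega)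
    rwa [Fin.append_right] at this

lemma admissible_append {p : Fin k → M} {h : Fin l → M} (hp : IsAdmissible R M p)
    (hh : ∀ j : Fin l, ∀ r ∈ maximalIdeal R, r • h j ∈ F p k ⊔ F h j) :
    IsAdmissible R M (Fin.append p h) := fun x r hr => by
  induction x using Fin.addCases with
  | left a => rw [Fin.append_left, Fin.val_castAdd, F_append_left p h (le_of_lt a.2)]; exact hp a r hr
  | right b => rw [Fin.append_right, Fin.val_natAdd, F_append_right]; exact hh b r hr

lemma nondeg_append_iff {p : Fin k → M} {h : Fin l → M} :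
    Nondeg (R := R) (Fin.append p h) ↔ Nondeg (R := R) p ∧ ∀ j : Fin l, h j ∉ F p k ⊔ F h j := by
  constructor
  · intro hn
    refine ⟨fun a => ?_, fun b => ?_⟩
    · have := hn (Fin.castAdd l a)
      rwa [Fin.append_left, Fin.val_castAdd, F_append_left p h (le_of_lt a.2)] at this
    · have := hn (Fin.natAdd k b)
      rwa [Fin.append_right, Fin.val_natAdd, F_append_right] at this
  · rintro ⟨h1, h2⟩ x
    induction x using Fin.addCases with
    | left a => rw [Fin.append_left, Fin.val_castAdd, F_append_left p h (le_of_lt a.2)]; exact h1 a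
    | right b => rw [Fin.append_right, Fin.val_natAdd, F_append_right]; exact h2 b

lemma append_swap_left (p : Fin k → M) (h : Fin l → M) (a b : Fin k) :
    Fin.append (p ∘ Equiv.swap a b) h = Fin.append p h ∘ Equiv.swap (Fin.castAdd l a) (Fin.castAdd l b) := by
  funext x
  induction x using Fin.addCases with
  | left i =>
    rw [Fin.append_left, Function.comp_apply, Function.comp_apply, ← (Fin.castAdd_injective k l).map_swap]
    rw [Fin.append_left]
  | right i =>
    rw [Fin.append_right, Function.comp_apply, Equiv.swap_apply_of_ne_of_ne, Fin.append_right] <;>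
      · intro e; have := congrArg Fin.val e; simp only [Fin.val_natAdd, Fin.val_castAdd] at this; omega

lemma append_swap_right (p : Fin k → M) (h : Fin l → M) (a b : Fin l) :
    Fin.append p (h ∘ Equiv.swap a b) = Fin.append p h ∘ Equiv.swap (Fin.natAdd k a) (Fin.natAdd k b) := by
  funext x
  induction x using Fin.addCases with
  | left i =>
    rw [Fin.append_left, Function.comp_apply, Equiv.swap_apply_of_ne_of_ne, Fin.append_left] <;>
      · intro e; have := congrArg Fin.val e; simp only [Fin.val_natAdd, Fin.val_castAdd] at this; omega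
  | right i =>
    rw [Fin.append_right, Function.comp_apply, Function.comp_apply, ← (Fin.natAdd_injective l k).map_swap]
    rw [Fin.append_right]

variable {Q : Type w} [AddCommGroup Q] [Module R Q] {q : M →ₗ[R] Q} {sec : Q → M}

lemma mem_of_map {N : Submodule R M} {p : Fin k → M} (hker : LinearMap.ker q ≤ F p k) {x : M}
    (hx : q x ∈ N.map q) : x ∈ F p k ⊔ N := by
  rw [← Submodule.mem_comap, Submodule.comap_map_eq] at hx
  exact (sup_comm N (F p k)) ▸ (sup_le_sup_left hker N) hx

lemma admissible_append_sec (hsec : ∀ y, q (sec y) = y) {p : Fin k → M} (hp : IsAdmissible R M p)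
    (hker : LinearMap.ker q ≤ F p k) {t : Fin l → Q} (ht : IsAdmissible R Q t) :
    IsAdmissible R M (Fin.append p (sec ∘ t)) := admissible_append hp fun j r hr => by
  refine mem_of_map hker ?_
  rw [← F_map q (sec ∘ t), map_smul, show q ((sec ∘ t) j) = t j from hsec _,
    show q ∘ sec ∘ t = t from funext fun i => hsec _]
  exact ht j r hr

lemma exists_pre (hsec : ∀ y, q (sec y) = y) {p : Fin k → M} (hp : IsAdmissible R M p)
    (hker : LinearMap.ker q = F p k) :
    ∃ L : DetOfLen R Q l →ₗ[ResidueField R] DetOfLen R M (k + l),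
      ∀ t : Fin l → Q, IsAdmissible R Q t → L (cls t) = cls (Fin.append p (sec ∘ t)) := by
  have hF : ∀ (t : Fin l → Q) (i : ℕ) (x : M), q x ∈ spanBefore R Q t i →
      x ∈ F p k ⊔ F (sec ∘ t) i := fun t i x hx => mem_of_map hker.le (by
    rwa [← F_map q (sec ∘ t), show q ∘ sec ∘ t = t from funext fun j => hsec _])
  refine exists_lift _ (fun t _ hn => cls_degen fun hn' => hn fun j hj => ?_) ?_ ?_
  · exact (nondeg_append_iff.1 hn').2 j (hF t j _ (by rw [Function.comp_apply, hsec]; exact hj))
  · intro t t' a c ht _ hj hc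
    refine cls_modify (admissible_append_sec hsec hp hker.le ht) (Fin.natAdd k a) c (fun x hx => ?_) ?_
    · induction x using Fin.addCases with
      | left i => rw [Fin.append_left, Fin.append_left]
      | right i =>
        rw [Fin.append_right, Fin.append_right, Function.comp_apply, Function.comp_apply,
          hj i fun e => hx (by rw [e])]
    · rw [Fin.append_right, Fin.append_right, Fin.val_natAdd, F_append_right]
      refine hF t a _ ?_
      rw [map_sub, map_smul, Function.comp_apply, Function.comp_apply, hsec, hsec]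
      exact hc
  · intro t a b ht hab hm
    show cls (Fin.append p ((sec ∘ t) ∘ Equiv.swap a b)) = _
    rw [append_swap_right]
    refine cls_swap (admissible_append_sec hsec hp hker.le ht) _ _ (by simp only [Fin.val_natAdd]; omega)
      fun r hr => ?_
    rw [Fin.append_right, Fin.val_natAdd, F_append_right]
    refine hF t b _ ?_
    rw [map_smul, Function.comp_apply, hsec]
    exact hm r hr

lemma append_congr (hsec : ∀ y, q (sec y) = y) {p : Fin k → M} (hker : LinearMap.ker q = F p k)
    {h : Fin l → M} (hph : IsAdmissible R M (Fin.append p h)) :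
    cls (R := R) (Fin.append p h) = cls (R := R) (Fin.append p (sec ∘ (q ∘ h))) :=
  cls_congr hph fun x => by
    induction x using Fin.addCases with
    | left i => rw [Fin.append_left, Fin.append_left, sub_self]; exact Submodule.zero_mem _
    | right i =>
      rw [Fin.append_right, Fin.append_right, Fin.val_natAdd, F_append_right]
      refine Submodule.mem_sup_left ?_
      rw [← hker, LinearMap.mem_ker, map_sub, Function.comp_apply, Function.comp_apply, hsec, sub_self]

lemma exists_pre_left {n : ℕ} (hn : Module.length R M = n) {N : Type w} [AddCommGroup N] [Module R N]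
    (hk : Module.length R N = k) (φ : N →ₗ[R] M) (hφ : Function.Injective φ) (H : Fin l → M)
    (hH : ∀ j : Fin l, ∀ r ∈ maximalIdeal R, r • H j ∈ LinearMap.range φ ⊔ F H j) :
    ∃ L : DetOfLen R N k →ₗ[ResidueField R] DetOfLen R M (k + l),
      ∀ t : Fin k → N, IsAdmissible R N t → Nondeg (R := R) t → L (cls t) = cls (Fin.append (φ ∘ t) H) := by
  classical
  let S : (Fin k → N) → DetOfLen R M (k + l) := fun t =>
    if Nondeg (R := R) t then cls (Fin.append (φ ∘ t) H) else 0
  have hadm : ∀ t : Fin k → N, IsAdmissible R N t → Nondeg (R := R) t →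
      IsAdmissible R M (Fin.append (φ ∘ t) H) := fun t ht hn => by
    refine admissible_append (isAdmissible_map φ ht) fun j r hr => ?_
    rw [F_map, F_top t le_rfl, (nondeg_iff_span hk ht).1 hn, Submodule.map_top]
    exact hH j r hr
  refine Exists.elim (exists_lift S (fun t _ h => if_neg h) (fun t t' a c ht _ hj hc => ?_)
    (fun t a b ht hab hm => ?_)) (fun L hL => ⟨L, fun t ht hn => (hL t ht).trans (if_pos hn)⟩)
  · have hiff := nondeg_modify (modify_single hj hc)
    by_cases h : Nondeg (R := R) t
    · show (if _ then _ else _) = _ • (if _ then _ else _)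
      rw [if_pos h, if_pos (hiff.1 h)]
      refine cls_modify (hadm t ht h) (Fin.castAdd l a) c (fun x hx => ?_) ?_
      · induction x using Fin.addCases with
        | left i =>
          rw [Fin.append_left, Fin.append_left, Function.comp_apply, Function.comp_apply,
            hj i fun e => hx (by rw [e])]
        | right i => rw [Fin.append_right, Fin.append_right]
      · rw [Fin.append_left, Fin.append_left, Fin.val_castAdd, F_append_left _ _ (le_of_lt a.2), F_map,
          Function.comp_apply, Function.comp_apply, ← map_smul, ← map_sub]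
        exact Submodule.mem_map_of_mem hc
    · simp only [S]
      rw [if_neg h, if_neg (fun h' => h (hiff.2 h')), smul_zero]
  · have ht' := admissible_swap ht hab hm
    have hiff : Nondeg (R := R) (t ∘ Equiv.swap a b) ↔ Nondeg (R := R) t := by
      rw [nondeg_iff_span hk ht', nondeg_iff_span hk ht, Set.range_comp, (Equiv.swap a b).surjective.range_eq,
        Set.image_univ]
    simp only [S]
    by_cases h : Nondeg (R := R) t
    · rw [if_pos h, if_pos (hiff.2 h), ← Function.comp_assoc, append_swap_left]
      refine cls_swap (hadm t ht h) _ _ (by simp only [Fin.val_castAdd]; exact hab) fun r hr => ?_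
      rw [Fin.append_left, Fin.val_castAdd, F_append_left _ _ (le_of_lt b.2), F_map, Function.comp_apply, ← map_smul]
      exact Submodule.mem_map_of_mem (hm r hr)
    · rw [if_neg h, if_neg (fun h' => h (hiff.1 h')), neg_zero]

end Append

lemma exists_first {l : ℕ} {g : M} (hl : Module.length R M = (l + 1 : ℕ)) (hg0 : g ≠ 0)
    (hmg : ∀ r : R, r ∈ maximalIdeal R → r • g = 0) {f : Fin (l + 1) → M} (hf : IsAdmissible R M f)
    (hn : Nondeg (R := R) f) :
    ∃ (c : ResidueField R) (h : Fin (l + 1) → M), IsAdmissible R M h ∧ Nondeg (R := R) h ∧ h 0 = g ∧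
      cls (R := R) f = c • cls (R := R) h := by
  obtain ⟨i, d, hix⟩ := exists_Ix (R := R) hf
    (by rw [(nondeg_iff_span hl hf).1 hn]; exact Submodule.mem_top) hg0
  obtain ⟨d', rfl⟩ := hix.2.1
  let f' := Function.update f i g
  have hj : ∀ j, j ≠ i → f j = f' j := fun j hj => (Function.update_of_ne hj g f).symm
  have hc : f i - (d' : R) • f' i ∈ F f i := by
    simp only [f', Function.update_self]
    exact hix.2.2
  have hmod := modify_single hj hc
  have main : ∀ (n : ℕ) (h : Fin (l + 1) → M) (x : Fin (l + 1)), (x : ℕ) = n → IsAdmissible R M h →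
      Nondeg (R := R) h → h x = g → ∃ (c : ResidueField R) (h' : Fin (l + 1) → M), IsAdmissible R M h' ∧
        Nondeg (R := R) h' ∧ h' 0 = g ∧ cls (R := R) h = c • cls (R := R) h' := by
    intro n
    induction n with
    | zero =>
      intro h x hx ha hn hg
      exact ⟨1, h, ha, hn, by rw [← hg]; exact congrArg h (Fin.ext (by simp [hx])), (one_smul _ _).symm⟩
    | succ n ih =>
      intro h x hx ha hn hg
      let b : Fin (l + 1) := ⟨n, by omega⟩
      have hab : (b : ℕ) + 1 = x := by simp only [b]; omega
      have hm : ∀ r ∈ maximalIdeal R, r • h x ∈ F h b := fun r hr => by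
        rw [hg, hmg r hr]; exact Submodule.zero_mem _
      have ha' := admissible_swap ha hab hm
      have hn' : Nondeg (R := R) (h ∘ Equiv.swap x b) := by
        rw [nondeg_iff_span hl ha', Set.range_comp, (Equiv.swap x b).surjective.range_eq, Set.image_univ,
          ← nondeg_iff_span hl ha]
        exact hn
      obtain ⟨c, h', h1, h2, h3, h4⟩ := ih (h ∘ Equiv.swap x b) b rfl ha' hn'
        (by rw [Function.comp_apply, Equiv.swap_apply_right, hg])
      refine ⟨-c, h', h1, h2, h3, ?_⟩
      rw [neg_smul, ← h4, cls_swap ha x b hab hm, neg_neg]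
  obtain ⟨c, h, h1, h2, h3, h4⟩ := main i f' i rfl (admissible_modify hf hmod) ((nondeg_modify hmod).1 hn)
    (Function.update_self i g f)
  exact ⟨residue R (d' : R) * c, h, h1, h2, h3, by rw [cls_modify hf i d' hj hc, h4, smul_smul]⟩

/-- the determinant is spanned by one vector -/
theorem exists_span : ∀ (l : ℕ) (M : Type v) [AddCommGroup M] [Module R M], Module.length R M = l →
    ∃ v : DetOfLen R M l, ∀ f : Fin l → M, cls (R := R) f ∈ Submodule.span (ResidueField R) {v} := by
  intro l
  induction l with
  | zero =>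
    intro M _ _ _
    exact ⟨cls Fin.elim0, fun f => by rw [Subsingleton.elim f Fin.elim0]; exact Submodule.mem_span_singleton_self _⟩
  | succ l ih =>
    intro M _ _ hl
    obtain ⟨e, he, hn⟩ := exists_nondeg (R := R) hl (l + 1) le_rfl
    let g := e 0
    have hg0 : g ≠ 0 := fun h => hn 0 (by show g ∈ _; rw [h]; exact Submodule.zero_mem _)
    have hmg : ∀ r : R, r ∈ maximalIdeal R → r • g = 0 := fun r hr => by
      have := he 0 r hr
      rwa [Fin.val_zero, F_zero, Submodule.mem_bot] at this
    have h2 : spanBefore R M e 1 = R ∙ g := by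
      have := F_succ (R := R) e 0
      rwa [Fin.val_zero, zero_add, F_zero, bot_sup_eq] at this
    have hg1 : Module.length R ↥(R ∙ g) = 1 := by
      have h1 := length_F_eq he hn 1 (by omega)
      rw [h2] at h1
      exact_mod_cast h1
    have hq : Module.length R (M ⧸ (R ∙ g)) = l := by
      have := Module.length_eq_add_of_exact (R ∙ g).subtype (R ∙ g).mkQ (Submodule.subtype_injective _)
        (Submodule.mkQ_surjective _) (LinearMap.exact_subtype_mkQ _)
      rw [hl, hg1, Nat.cast_add, Nat.cast_one, add_comm (1 : ℕ∞)] at this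
      exact (WithTop.add_right_cancel (ENat.natCast_ne_top 1) this).symm
    obtain ⟨v, hv⟩ := ih (M ⧸ (R ∙ g)) hq
    have hsec := Function.surjInv_eq (Submodule.mkQ_surjective (R ∙ g))
    let sec := Function.surjInv (Submodule.mkQ_surjective (R ∙ g))
    let p : Fin 1 → M := fun _ => g
    have hp : IsAdmissible R M p := fun _ r hr => by rw [hmg r hr]; exact Submodule.zero_mem _
    have hFp : spanBefore R M p 1 = R ∙ g := by rw [F_top p le_rfl, Set.range_const]
    obtain ⟨L, hL⟩ := exists_pre (R := R) (l := l) (q := (R ∙ g).mkQ) (sec := sec) hsec hp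
      (by rw [Submodule.ker_mkQ, hFp])
    have cast : ∀ (n m : ℕ) (hnm : n = m), ∃ C : DetOfLen R M n →ₗ[ResidueField R] DetOfLen R M m,
        ∀ f : Fin n → M, C (cls f) = cls (f ∘ Fin.cast hnm.symm) := fun n m hnm => by
      subst hnm
      exact ⟨LinearMap.id, fun f => rfl⟩
    obtain ⟨C, hC⟩ := cast (1 + l) (l + 1) (Nat.add_comm 1 l)
    refine ⟨C (L v), fun f => ?_⟩
    by_cases hfa : IsAdmissible R M f
    swap
    · rw [cls, dif_neg hfa]; exact Submodule.zero_mem _
    by_cases hfn : Nondeg (R := R) f
    swap
    · rw [cls_degen hfn]; exact Submodule.zero_mem _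
    obtain ⟨c, h, h1, _, h3, h4⟩ := exists_first hl hg0 hmg hfa hfn
    rw [h4]
    refine Submodule.smul_mem _ c ?_
    let h' : Fin (1 + l) → M := h ∘ Fin.cast (Nat.add_comm 1 l)
    have hh' : IsAdmissible R M h' := fun x r hr => by
      have e1 : spanBefore R M h' x = spanBefore R M h (x : ℕ) :=
        le_antisymm ((F_le_iff _).2 fun j hj => mem_F h (j := Fin.cast (Nat.add_comm 1 l) j) hj)
          ((F_le_iff _).2 fun j hj => by
            have h5 := mem_F (R := R) h' (j := Fin.cast (Nat.add_comm l 1) j) (i := (x : ℕ)) hj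
            simpa [h'] using h5)
      rw [e1]
      exact h1 (Fin.cast (Nat.add_comm 1 l) x) r hr
    have hpt : h' = Fin.append p (fun j => h' (Fin.natAdd 1 j)) := funext fun x => by
      induction x using Fin.addCases with
      | left i =>
        rw [Fin.append_left]
        show h _ = g
        rw [← h3]
        exact congrArg h (Fin.ext (by simp))
      | right i => rw [Fin.append_right]
    have : cls (R := R) h = C (cls h') := by
      rw [hC]
      exact congrArg cls (funext fun x => congrArg h (Fin.ext rfl))
    rw [this, hpt, append_congr (q := (R ∙ g).mkQ) (sec := sec) hsec (by rw [Submodule.ker_mkQ, hFp]) (hpt ▸ hh'),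
      ← hL]
    · obtain ⟨a, ha⟩ := Submodule.mem_span_singleton.1 (hv _)
      rw [← ha, map_smul, map_smul]
      exact Submodule.smul_mem _ a (Submodule.mem_span_singleton_self _)
    · intro j r hr
      rw [F_map, Function.comp_apply, ← map_smul, mem_map_mkQ]
      have := hh' (Fin.natAdd 1 j) r hr
      rw [show spanBefore R M h' (Fin.natAdd 1 j : Fin (1 + l)) = spanBefore R M (Fin.append p (fun j => h' (Fin.natAdd 1 j))) (1 + (j : ℕ)) by
        rw [← hpt, Fin.val_natAdd], F_append_right, hFp, sup_comm] at this
      exact this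

/-- the symbols span, so the determinant is one-dimensional -/
theorem span_eq_top {l : ℕ} (hl : Module.length R M = l) :
    ∃ e : Fin l → M, IsAdmissible R M e ∧ Nondeg (R := R) e ∧ cls (R := R) e ≠ 0 ∧
      Submodule.span (ResidueField R) {cls (R := R) e} = (⊤ : Submodule (ResidueField R) (DetOfLen R M l)) := by
  obtain ⟨v, hv⟩ := exists_span l M hl
  obtain ⟨e, he, hn⟩ := exists_nondeg (R := R) hl l le_rfl
  have hne : cls (R := R) e ≠ 0 := by
    rw [cls, dif_pos he]
    exact symbol_ne_zero hl ⟨e, he⟩ hn
  refine ⟨e, he, hn, hne, eq_top_iff.2 ?_⟩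
  have htop : (⊤ : Submodule (ResidueField R) (DetOfLen R M l)) ≤ Submodule.span (ResidueField R) {v} := by
    rintro x -
    obtain ⟨x, rfl⟩ := Submodule.mkQ_surjective _ x
    induction x using Finsupp.induction_linear with
    | zero => rw [map_zero]; exact Submodule.zero_mem _
    | add a b ha hb => rw [map_add]; exact add_mem ha hb
    | single f c =>
      rw [← mul_one c, ← smul_eq_mul, ← Finsupp.smul_single, map_smul]
      refine Submodule.smul_mem _ _ ?_
      have h5 := hv f.1
      rw [cls_eq f] at h5
      exact h5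
  refine htop.trans ((Submodule.span_singleton_le_iff_mem _ _).2 ?_)
  obtain ⟨a, ha⟩ := Submodule.mem_span_singleton.1 (hv e)
  rcases eq_or_ne a 0 with rfl | ha0
  · exact absurd (ha.symm.trans (zero_smul _ v)) hne
  · exact Submodule.mem_span_singleton.2 ⟨a⁻¹, by rw [← ha, smul_smul, inv_mul_cancel₀ ha0, one_smul]⟩

end CycDet29

end
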