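import Groth.Agent.Lib.CycDet29.Rel
import Groth.Agent.Lib.CycDet29.Span

/-! # The index of a lattice and the symbol of a filtered basis -/

set_option autoImplicit false
set_option linter.style.haveILetI false
set_option maxHeartbeats 400000
universe u

noncomputable section

namespace CycDet29

open CycDet IsLocalRing

variable {R : Type u} [CommRing R] [IsNoetherianRing R] (p : Ideal R) [p.IsPrime]
variable {N : Type u} [AddCommGroup N] [Module R N]

local notation "A" => Localization.AtPrime p
local notation "κ" => ResidueField (Localization.AtPrime p)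
local notation "V" => LocalizedModule p.primeCompl N
local notation "ι" => LocalizedModule.mkLinearMap p.primeCompl N

omit [IsNoetherianRing R] in
theorem mem_max_iff (r : R) : algebraMap R A r ∈ maximalIdeal A ↔ r ∈ p :=
  IsLocalization.AtPrime.to_map_mem_maximal_iff A p r

omit [IsNoetherianRing R] in
theorem exists_num (v : V) : ∃ (n : N) (s : R), s ∉ p ∧ s • v = ι n := by
  obtain ⟨⟨n, s⟩, h⟩ := IsLocalizedModule.surj p.primeCompl ι v
  exact ⟨n, s, s.2, h⟩

/-- a numerator -/
def num (v : V) : N := (exists_num p v).choose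

/-- a denominator -/
def den (v : V) : R := (exists_num p v).choose_spec.choose

omit [IsNoetherianRing R] in
theorem den_notMem (v : V) : den p v ∉ p := (exists_num p v).choose_spec.choose_spec.1

omit [IsNoetherianRing R] in
theorem den_smul (v : V) : den p v • v = ι (num p v) := (exists_num p v).choose_spec.choose_spec.2

/-- the trace on `N` of a submodule of the localization -/
def sat (P : Submodule A V) : Submodule R N := (P.restrictScalars R).comap ι

omit [IsNoetherianRing R] in
theorem mem_sat {P : Submodule A V} {x : N} : x ∈ sat p P ↔ ι x ∈ P := Iff.rfl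

variable {l : ℕ}

local notation "F" => spanBefore (Localization.AtPrime p) (LocalizedModule p.primeCompl N)

/-- `(n, s)` represents the `a`-th entry -/
def Pair (f : Fin l → V) (a : Fin l) (n : N) (s : R) : Prop := s ∉ p ∧ s • f a - ι n ∈ F f a

omit [IsNoetherianRing R] in
theorem pair_num (f : Fin l → V) (a : Fin l) : Pair p f a (num p (f a)) (den p (f a)) :=
  ⟨den_notMem p _, by rw [den_smul, sub_self]; exact zero_mem _⟩

omit [IsNoetherianRing R] in
theorem smul_mem_F (f : Fin l → V) {i : ℕ} {v : V} (r : R) (h : v ∈ F f i) : r • v ∈ F f i := by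
  rw [← algebraMap_smul A r v]; exact Submodule.smul_mem _ _ h

omit [IsNoetherianRing R] in
theorem num_mem_succ {f : Fin l → V} {a : Fin l} {n : N} {s : R} (h : Pair p f a n s) :
    n ∈ sat p (F f ((a : ℕ) + 1)) := by
  rw [mem_sat, ← sub_sub_cancel (s • f a) (ι n)]
  exact sub_mem (smul_mem_F p f s (mem_F f (by omega))) (F_mono f (Nat.le_succ _) h.2)

omit [IsNoetherianRing R] in
theorem smul_num_mem {f : Fin l → V} (hf : IsAdmissible A V f) (hn : Nondeg (R := A) f) {a : Fin l} {n : N} {s : R}
    (h : Pair p f a n s) (r : R) : r • n ∈ sat p (F f a) ↔ r ∈ p := by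
  have e : ι (r • n) = algebraMap R A (r * s) • f a - r • (s • f a - ι n) := by
    rw [algebraMap_smul, smul_sub, mul_smul, map_smul]; abel
  rw [mem_sat, e]
  constructor
  · intro hmem
    by_contra hr
    have h1 : algebraMap R A (r * s) • f a ∈ F f a := by simpa using add_mem hmem (smul_mem_F p f r h.2)
    have hu : IsUnit (algebraMap R A (r * s)) :=
      isUnit_of_not_mem fun hm => (Ideal.IsPrime.mem_or_mem ‹p.IsPrime› ((mem_max_iff p _).1 hm)).elim hr h.1
    exact hn a ((Submodule.smul_mem_iff_of_isUnit _ hu).1 h1)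
  · intro hr
    exact sub_mem (hf a _ ((mem_max_iff p _).2 (Ideal.mul_mem_right _ _ hr))) (smul_mem_F p f r h.2)

variable [Module.Finite R N] (hdim : ringKrullDim (R ⧸ p) ≤ 1)

omit [IsNoetherianRing R] [Module.Finite R N] in
theorem torsion_succ {f : Fin l → V} {a : Fin l} {n : N} {s : R} (h : Pair p f a n s) {L : Submodule R N}
    (hL : sat p (F f a) ⊔ R ∙ n ≤ L) {x : N} (hx : x ∈ sat p (F f ((a : ℕ) + 1))) : ∃ t, t ∉ p ∧ t • x ∈ L := by
  rw [mem_sat, F_succ] at hx
  obtain ⟨u, hu, w, hw, huw⟩ := Submodule.mem_sup.1 hx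
  obtain ⟨c, rfl⟩ := Submodule.mem_span_singleton.1 hw
  obtain ⟨⟨r, t⟩, hrt⟩ := IsLocalization.surj p.primeCompl c
  simp only at hrt
  refine ⟨s * t, fun hm => (Ideal.IsPrime.mem_or_mem ‹p.IsPrime› hm).elim h.1 t.2, hL ?_⟩
  have hcf : (t : R) • c • f a = r • f a := by
    rw [← algebraMap_smul A (t : R), smul_smul, mul_comm, hrt, algebraMap_smul]
  have key : (s * (t : R)) • x - r • n ∈ sat p (F f a) := by
    rw [mem_sat, map_sub, map_smul, map_smul, ← huw, smul_add, mul_smul s (t : R) (c • f a), hcf, smul_comm s r,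
      show (s * (t : R)) • u + r • s • f a - r • ι n = (s * (t : R)) • u + r • (s • f a - ι n) by rw [smul_sub]; abel]
    exact add_mem (smul_mem_F p f _ hu) (smul_mem_F p f r h.2)
  rw [show (s * (t : R)) • x = ((s * (t : R)) • x - r • n) + r • n from (sub_add_cancel _ _).symm]
  exact Submodule.add_mem_sup key (Submodule.smul_mem _ _ (Submodule.mem_span_singleton_self n))

omit [IsNoetherianRing R] [Module.Finite R N] in
theorem kill_succ {f : Fin l → V} (hf : IsAdmissible A V f) {a : Fin l} {L : Submodule R N}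
    (hL : sat p (F f a) ≤ L) {r : R} (hr : r ∈ p) {x : N} (hx : x ∈ sat p (F f ((a : ℕ) + 1))) : r • x ∈ L := by
  refine hL ?_
  rw [mem_sat, F_succ] at hx
  obtain ⟨u, hu, w, hw, huw⟩ := Submodule.mem_sup.1 hx
  obtain ⟨c, rfl⟩ := Submodule.mem_span_singleton.1 hw
  rw [mem_sat, map_smul, ← huw, smul_add]
  refine add_mem (smul_mem_F p f r hu) ?_
  rw [← algebraMap_smul A r, smul_comm]
  exact Submodule.smul_mem _ _ (hf a _ ((mem_max_iff p _).2 hr))

/-- the graded index at one step -/
def eps (f : Fin l → V) (a : Fin l) (n : N) (s : R) : ℤ :=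
  ((rlen (sat p (F f a) ⊔ R ∙ n) (sat p (F f ((a : ℕ) + 1)))).toNat : ℤ) - ordc p s

omit [IsNoetherianRing R] [Module.Finite R N] in
theorem step_le {f : Fin l → V} {a : Fin l} {n : N} {s : R} (h : Pair p f a n s) :
    sat p (F f a) ⊔ R ∙ n ≤ sat p (F f ((a : ℕ) + 1)) :=
  sup_le (fun x hx => F_mono f (Nat.le_succ _) hx)
    ((Submodule.span_singleton_le_iff_mem _ _).2 (num_mem_succ p h))

include hdim in
theorem step_lt_top {f : Fin l → V} (hf : IsAdmissible A V f) {a : Fin l} {n : N} {s : R} (h : Pair p f a n s) :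
    rlen (sat p (F f a) ⊔ R ∙ n) (sat p (F f ((a : ℕ) + 1))) < ⊤ :=
  rlen_lt_top p hdim (fun _ hr _ hx => kill_succ p hf le_sup_left hr hx) (fun _ hx => torsion_succ p h le_rfl hx)

include hdim in
theorem eps_smul {f : Fin l → V} (hf : IsAdmissible A V f) (hn : Nondeg (R := A) f) {a : Fin l} {n : N} {s : R}
    (h : Pair p f a n s) {r : R} (hr : r ∉ p) : eps p f a (r • n) (r * s) = eps p f a n s := by
  have hle : sat p (F f a) ⊔ R ∙ (r • n) ≤ sat p (F f a) ⊔ R ∙ n :=
    sup_le_sup_left ((Submodule.span_singleton_le_iff_mem _ _).2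
      (Submodule.smul_mem _ _ (Submodule.mem_span_singleton_self n))) _
  rw [eps, eps, rlen_add hle (step_le p h), rlen_cyclic (smul_num_mem p hf hn h) r,
    toNat_add' (ordc_eq p hdim hr).2 (step_lt_top p hdim hf h), Nat.cast_add, ← (ordc_eq p hdim hr).1,
    ordc_mul p hdim hr h.1]
  ring

include hdim in
theorem eps_indep {f : Fin l → V} (hf : IsAdmissible A V f) (hn : Nondeg (R := A) f) {a : Fin l} {n n' : N}
    {s s' : R} (h : Pair p f a n s) (h' : Pair p f a n' s') : eps p f a n s = eps p f a n' s' := by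
  rw [← eps_smul p hdim hf hn h h'.1, ← eps_smul p hdim hf hn h' h.1, eps, eps, mul_comm s' s]
  have hd : s' • n - s • n' ∈ sat p (F f a) := by
    rw [mem_sat, map_sub, map_smul, map_smul,
      show s' • ι n - s • ι n' = s • (s' • f a - ι n') - s' • (s • f a - ι n) by
        rw [smul_sub, smul_sub, smul_comm s s']; abel]
    exact sub_mem (smul_mem_F p f s h'.2) (smul_mem_F p f s' h.2)
  have e : sat p (F f a) ⊔ R ∙ (s' • n) = sat p (F f a) ⊔ R ∙ (s • n') := by
    refine le_antisymm (sup_le le_sup_left ((Submodule.span_singleton_le_iff_mem _ _).2 ?_))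
      (sup_le le_sup_left ((Submodule.span_singleton_le_iff_mem _ _).2 ?_))
    · rw [show s' • n = (s' • n - s • n') + s • n' from (sub_add_cancel _ _).symm]
      exact Submodule.add_mem_sup hd (Submodule.mem_span_singleton_self _)
    · rw [show s • n' = -(s' • n - s • n') + s' • n by abel]
      exact Submodule.add_mem_sup (neg_mem hd) (Submodule.mem_span_singleton_self _)
  rw [e]

/-- the index of a tuple -/
def idx (f : Fin l → V) : ℤ := ∑ a, eps p f a (num p (f a)) (den p (f a))

include hdim in
theorem idx_eq {f : Fin l → V} (hf : IsAdmissible A V f) (hn : Nondeg (R := A) f) (n : Fin l → N) (s : Fin l → R)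
    (h : ∀ a, Pair p f a (n a) (s a)) : idx p f = ∑ a, eps p f a (n a) (s a) :=
  Finset.sum_congr rfl fun a _ => eps_indep p hdim hf hn (pair_num p f a) (h a)

include hdim in
theorem idx_modify {e e' : Fin l → V} {a : Fin l} {c : Aˣ} (he : IsAdmissible A V e) (he' : IsAdmissible A V e')
    (hn : Nondeg (R := A) e) (hj : ∀ j, j ≠ a → e j = e' j) (hc : e a - (c : A) • e' a ∈ F e a) :
    idx p e = idx p e' + CycAlg.ordFrac (R ⧸ p) p.ResidueField (residue A (c : A)) := by
  classical
  have hmod := modify_single hj hc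
  have hn' := (nondeg_modify hmod).1 hn
  have hF : ∀ i, F e i = F e' i := fun i => F_modify hmod i
  obtain ⟨⟨r, t⟩, hrt⟩ := IsLocalization.surj p.primeCompl (c : A)
  simp only at hrt
  have ht : (t : R) ∉ p := t.2
  have hr : r ∉ p := fun hr => by
    have h1 := (mem_max_iff p r).2 hr
    rw [← hrt] at h1
    exact h1 (c.isUnit.mul (IsLocalization.map_units A t))
  let n' := num p (e' a)
  let s' := den p (e' a)
  have hP' : Pair p e' a n' s' := pair_num p e' a
  have hPr : Pair p e' a (r • n') (r * s') := ⟨fun hm => (Ideal.IsPrime.mem_or_mem ‹p.IsPrime› hm).elim hr hP'.1, by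
    rw [mul_smul, map_smul, ← smul_sub]; exact smul_mem_F p e' r hP'.2⟩
  have hPe : Pair p e a (r • n') ((t : R) * s') := by
    refine ⟨fun hm => (Ideal.IsPrime.mem_or_mem ‹p.IsPrime› hm).elim ht hP'.1, ?_⟩
    have e1 : ((t : R) * s') • e a - ι (r • n')
        = ((t : R) * s') • (e a - (c : A) • e' a) + r • (s' • e' a - ι n') := by
      rw [smul_sub, smul_sub, map_smul, mul_comm (t : R) s', mul_smul s' (t : R) ((c : A) • e' a),
        ← algebraMap_smul A (t : R) ((c : A) • e' a), smul_smul, mul_comm (algebraMap R A (t : R)), hrt,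
        algebraMap_smul, smul_comm s' r]
      abel
    rw [e1]
    exact add_mem (smul_mem_F p e _ hc) (smul_mem_F p e r (by rw [hF]; exact hP'.2))
  have hes : eps p e a (num p (e a)) (den p (e a)) = eps p e' a n' s' + (ordc p r - ordc p (t : R)) := by
    rw [eps_indep p hdim he hn (pair_num p e a) hPe, ← eps_smul p hdim he' hn' hP' hr, eps, eps, hF, hF,
      ordc_mul p hdim ht hP'.1, ordc_mul p hdim hr hP'.1]
    ring
  have hord : CycAlg.ordFrac (R ⧸ p) p.ResidueField (residue A (c : A)) = ordc p r - ordc p (t : R) := by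
    have h1 : residue A (c : A) * algebraMap R p.ResidueField (t : R) = algebraMap R p.ResidueField r := by
      show residue A (c : A) * residue A (algebraMap R A (t : R)) = residue A (algebraMap R A r)
      rw [← map_mul, hrt]
    have h2 : (residue A (c : A) : p.ResidueField) ≠ 0 := (residue_ne_zero_iff_isUnit _).2 c.isUnit
    have h3 := Groth.Agent.Lattice26.ordFrac_mul hdim (x := (residue A (c : A) : p.ResidueField)) h2
      (algebraMap_residueField_ne_zero p ht)
    rw [h1] at h3
    simp only [ordc]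
    linarith
  rw [hord, idx, idx, ← Finset.add_sum_erase _ _ (Finset.mem_univ a),
    ← Finset.add_sum_erase Finset.univ (fun b => eps p e' b (num p (e' b)) (den p (e' b))) (Finset.mem_univ a), hes,
    Finset.sum_congr rfl fun b hb => show eps p e b (num p (e b)) (den p (e b)) = eps p e' b (num p (e' b)) (den p (e' b)) by
      rw [hj b (Finset.ne_of_mem_erase hb), eps, eps, hF, hF]]
  ring

include hdim in
theorem idx_two_step {e : Fin l → V} (he : IsAdmissible A V e) (hn : Nondeg (R := A) e) {a b : Fin l}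
    (hab : (b : ℕ) + 1 = a) (hm : ∀ r ∈ maximalIdeal A, r • e a ∈ F e b) :
    eps p e b (num p (e b)) (den p (e b)) + eps p e a (num p (e a)) (den p (e a)) =
      ((rlen (sat p (F e b) ⊔ R ∙ num p (e b) ⊔ R ∙ num p (e a)) (sat p (F e ((a : ℕ) + 1)))).toNat : ℤ)
        - ordc p (den p (e b)) - ordc p (den p (e a)) := by
  have hb := pair_num p e b
  have ha := pair_num p e a
  set nb := num p (e b)
  set na := num p (e a)
  have h1 : sat p (F e b) ⊔ R ∙ nb ≤ sat p (F e a) := by rw [← hab]; exact step_le p hb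
  have h2 : sat p (F e b) ⊔ R ∙ nb ⊔ R ∙ na ≤ sat p (F e a) ⊔ R ∙ na := sup_le_sup_right h1 _
  have h3 : rlen (sat p (F e b) ⊔ R ∙ nb ⊔ R ∙ na) (sat p (F e a) ⊔ R ∙ na)
      = rlen (sat p (F e b) ⊔ R ∙ nb) (sat p (F e a)) := by
    refine rlen_sup h1 ?_
    rintro x ⟨hx1, hx2⟩
    obtain ⟨u, hu, w, hw, rfl⟩ := Submodule.mem_sup.1 hx2
    obtain ⟨r, rfl⟩ := Submodule.mem_span_singleton.1 hw
    have hr : r ∈ p := (smul_num_mem p he hn ha r).1 (by simpa using sub_mem hx1 (h1 hu))
    refine add_mem hu (Submodule.mem_sup_left ?_)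
    rw [mem_sat, map_smul, ← den_smul, smul_smul, ← algebraMap_smul A]
    exact hm _ ((mem_max_iff p _).2 (Ideal.mul_mem_right _ _ hr))
  rw [rlen_add h2 (step_le p ha), h3, toNat_add' (by rw [← hab]; exact step_lt_top p hdim he hb)
    (step_lt_top p hdim he ha), Nat.cast_add, eps, eps, hab]
  ring

include hdim in
theorem idx_swap {e : Fin l → V} (he : IsAdmissible A V e) (hn : Nondeg (R := A) e) {a b : Fin l}
    (hab : (b : ℕ) + 1 = a) (hm : ∀ r ∈ maximalIdeal A, r • e a ∈ F e b)
    (hn' : Nondeg (R := A) (e ∘ Equiv.swap a b)) : idx p (e ∘ Equiv.swap a b) = idx p e := by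
  classical
  set e' := e ∘ Equiv.swap a b with he'def
  have he' : IsAdmissible A V e' := admissible_swap he hab hm
  have hne : a ≠ b := fun h => by rw [h] at hab; omega
  have hea : e' a = e b := by simp [e']
  have heb : e' b = e a := by simp [e']
  have hm' : ∀ r ∈ maximalIdeal A, r • e' a ∈ F e' b := fun r hr => by
    rw [hea, F_swap hab (by omega)]; exact he b r hr
  have h2 := idx_two_step p hdim he hn hab hm
  have h2' := idx_two_step p hdim he' hn' hab hm'
  rw [F_swap hab (show ((b : ℕ)) ≠ a by omega), F_swap hab (show (a : ℕ) + 1 ≠ a by omega), hea, heb,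
    sup_right_comm] at h2'
  have key : eps p e' b (num p (e' b)) (den p (e' b)) + eps p e' a (num p (e' a)) (den p (e' a))
      = eps p e b (num p (e b)) (den p (e b)) + eps p e a (num p (e a)) (den p (e a)) := by
    rw [hea, heb] at *; omega
  have hsplit : ∀ g : Fin l → ℤ, ∑ j, g j = g b + g a + ∑ j ∈ (Finset.univ.erase b).erase a, g j := fun g => by
    rw [← Finset.add_sum_erase _ _ (Finset.mem_univ b),
      ← Finset.add_sum_erase (Finset.univ.erase b) _ (Finset.mem_erase.2 ⟨hne, Finset.mem_univ a⟩), add_assoc]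
  rw [idx, idx, hsplit, hsplit, key]
  refine congrArg _ (Finset.sum_congr rfl fun j hj => ?_)
  obtain ⟨hja, hj'⟩ := Finset.mem_erase.1 hj
  obtain ⟨hjb, -⟩ := Finset.mem_erase.1 hj'
  have ej : e' j = e j := by simp [e', Equiv.swap_apply_of_ne_of_ne hja hjb]
  rw [ej, eps, eps, F_swap hab (fun h => hja (Fin.ext h)),
    F_swap hab (show (j : ℕ) + 1 ≠ a from fun h => hjb (Fin.ext (by omega)))]

open scoped Classical in
/-- the order of a symbol ratio computes the difference of the indices -/
theorem idx_sub_eq_ord (hdim : ringKrullDim (R ⧸ p) ≤ 1) (hl : Module.length A V = l) (ex ey : Adm A V l)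
    (hxn : Nondeg (R := A) ex.1) (hyn : Nondeg (R := A) ey.1) (f : p.ResidueField)
    (h : (Submodule.Quotient.mk (sym A V ex) : DetOfLen A V l) = f • Submodule.Quotient.mk (sym A V ey)) :
    idx p ex.1 = idx p ey.1 + CycAlg.ordFrac (R ⧸ p) p.ResidueField f := by
  obtain ⟨D, hD⟩ := exists_isGood (R := A) l V hl
  let G : (Fin l → V) → ℤ := fun e => idx p e - CycAlg.ordFrac (R ⧸ p) p.ResidueField (D e)
  let S : (Fin l → V) → (ℤ →₀ κ) := fun e => if Nondeg (R := A) e then D e • Finsupp.single (G e) 1 else 0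
  obtain ⟨L, hL⟩ := exists_lift (R := A) (M := V) S (fun e _ hn => if_neg hn)
    (fun e e' a c he he' hj hc => by
      by_cases hn : Nondeg (R := A) e
      swap
      · show (if _ then _ else _) = _ • (if _ then _ else _)
        rw [if_neg hn, if_neg fun h => hn ((nondeg_modify (modify_single hj hc)).2 h), smul_zero]
      have hn' := (nondeg_modify (modify_single hj hc)).1 hn
      have hG : G e = G e' := by
        show idx p e - _ = idx p e' - _
        rw [idx_modify p hdim he he' hn hj hc, hD.modify e e' a c he he' hj hc]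
        have h4 : CycAlg.ordFrac (R ⧸ p) p.ResidueField (residue A (c : A) * D e') = _ :=
          Groth.Agent.Lattice26.ordFrac_mul hdim (x := (residue A (c : A) : p.ResidueField))
            (y := (D e' : p.ResidueField)) ((residue_ne_zero_iff_isUnit _).2 c.isUnit) (hD.ne_zero e' he' hn')
        rw [h4]
        ring
      show (if _ then _ else _) = _ • (if _ then _ else _)
      rw [if_pos hn, if_pos hn', hG, hD.modify e e' a c he he' hj hc, mul_smul])
    (fun e a b he hab hm => by
      have he' := admissible_swap he hab hm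
      have hnn : Nondeg (R := A) (e ∘ Equiv.swap a b) ↔ Nondeg (R := A) e := by
        rw [nondeg_iff_span hl he', nondeg_iff_span hl he, Set.range_comp, (Equiv.swap a b).surjective.range_eq,
          Set.image_univ]
      by_cases hn : Nondeg (R := A) e
      swap
      · simp only [S]
        rw [if_neg hn, if_neg fun h => hn (hnn.1 h), neg_zero]
      have hG : G (e ∘ Equiv.swap a b) = G e := by
        show idx p _ - _ = idx p e - _
        rw [idx_swap p hdim he hn hab hm (hnn.2 hn), hD.swap e a b he hab hm]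
        have := ordFrac_neg p hdim (x := (D e : p.ResidueField)) (hD.ne_zero e he hn)
        omega
      simp only [S]
      rw [if_pos hn, if_pos (hnn.2 hn), hG, hD.swap e a b he hab hm, neg_smul])
  rw [← cls_eq, ← cls_eq] at h
  have h1 := congrArg L h
  rw [map_smul, hL _ ex.2, hL _ ey.2] at h1
  simp only [S, if_pos hxn, if_pos hyn, Finsupp.smul_single, smul_eq_mul, mul_one] at h1
  rcases (Finsupp.single_eq_single_iff _ _ _ _).1 h1 with ⟨hGe, hDe⟩ | ⟨h0, -⟩
  swap
  · exact absurd h0 (hD.ne_zero _ ex.2 hxn)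
  have hf : f ≠ 0 := fun hf => hD.ne_zero _ ex.2 hxn (by rw [hDe, hf]; exact zero_mul _)
  have h3 : CycAlg.ordFrac (R ⧸ p) p.ResidueField (D ex.1)
      = CycAlg.ordFrac (R ⧸ p) p.ResidueField f + CycAlg.ordFrac (R ⧸ p) p.ResidueField (D ey.1) := by
    rw [hDe]
    exact Groth.Agent.Lattice26.ordFrac_mul hdim hf (hD.ne_zero _ ey.2 hyn)
  have : idx p ex.1 - CycAlg.ordFrac (R ⧸ p) p.ResidueField (D ex.1)
      = idx p ey.1 - CycAlg.ordFrac (R ⧸ p) p.ResidueField (D ey.1) := hGe
  omega

end CycDet29

end
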