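import Groth.Agent.Lib.CycDet29.Lattice

/-! # The length of a cokernel is the order of the ratio of symbols -/

set_option autoImplicit false
set_option linter.style.haveILetI false
set_option maxHeartbeats 400000
universe u

noncomputable section

namespace CycDet29

open CycDet IsLocalRing

variable {R : Type u} [CommRing R] [IsNoetherianRing R] [IsLocalRing R] (p : Ideal R) [p.IsPrime]
variable {M N : Type u} [AddCommGroup M] [Module R M] [AddCommGroup N] [Module R N]

local notation "A" => Localization.AtPrime p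
local notation "V" => LocalizedModule p.primeCompl N
local notation "ι" => LocalizedModule.mkLinearMap p.primeCompl N
local notation "F" => spanBefore (Localization.AtPrime p) (LocalizedModule p.primeCompl N)

variable {l : ℕ}

omit [IsNoetherianRing R] [p.IsPrime] in
/-- consequences of a filtration with quotients `R ⧸ p` -/
theorem filt_facts {y : Fin l → N}
    (hyq : ∀ i : Fin l, Nonempty ((↥(CycDet.spanBefore R N y (i + 1)) ⧸ (CycDet.spanBefore R N y i).submoduleOf
      (CycDet.spanBefore R N y (i + 1))) ≃ₗ[R] (R ⧸ p))) (i : Fin l) (r : R) :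
    r • y i ∈ spanBefore R N y i ↔ r ∈ p := by
  obtain ⟨e⟩ := hyq i
  set S' := spanBefore R N y (i + 1)
  set S := (spanBefore R N y i).submoduleOf S'
  have hy : y i ∈ S' := mem_F y (Nat.lt_succ_self _)
  let c : ↥S' ⧸ S := Submodule.Quotient.mk ⟨y i, hy⟩
  have hc : ∀ r : R, r • c = 0 ↔ r • y i ∈ spanBefore R N y i := fun r => by
    rw [← Submodule.Quotient.mk_smul, Submodule.Quotient.mk_eq_zero]; rfl
  have hgen : ∀ z : ↥S' ⧸ S, ∃ t : R, t • c = z := fun z => by
    obtain ⟨⟨x, hx⟩, rfl⟩ := Submodule.Quotient.mk_surjective _ z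
    have hx' := hx
    rw [show S' = _ from F_succ y i] at hx'
    obtain ⟨u, hu, w, hw, huw⟩ := Submodule.mem_sup.1 hx'
    obtain ⟨t, rfl⟩ := Submodule.mem_span_singleton.1 hw
    refine ⟨t, ?_⟩
    rw [← Submodule.Quotient.mk_smul, Submodule.Quotient.eq]
    show t • y i - x ∈ spanBefore R N y i
    rw [← huw, sub_add_cancel_right]
    exact neg_mem hu
  rw [← hc]
  constructor
  · intro h
    obtain ⟨t, ht⟩ := hgen (e.symm (Ideal.Quotient.mk p 1))
    have h1 : r • e.symm (Ideal.Quotient.mk p 1) = 0 := by rw [← ht, smul_comm, h, smul_zero]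
    rw [← map_smul, LinearEquiv.map_eq_zero_iff, Algebra.smul_def, Ideal.Quotient.algebraMap_eq, ← map_mul, mul_one]
      at h1
    exact Ideal.Quotient.eq_zero_iff_mem.1 h1
  · intro h
    obtain ⟨z, hz⟩ := Ideal.Quotient.mk_surjective (e c)
    rw [← e.map_eq_zero_iff, map_smul, ← hz, Algebra.smul_def, Ideal.Quotient.algebraMap_eq, ← map_mul,
      Ideal.Quotient.eq_zero_iff_mem]
    exact Ideal.mul_mem_right _ _ h

omit [IsNoetherianRing R] in
theorem clear_denom {S : Submodule R N} {P : Submodule A V} (hP : P = Submodule.span A (ι '' (S : Set N))) {v : N}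
    (hv : ι v ∈ P) : ∃ t : R, t ∉ p ∧ t • v ∈ S := by
  have aux : ∀ w ∈ P, ∃ t : R, t ∉ p ∧ ∃ s ∈ S, t • w = ι s := by
    intro w hw
    rw [hP] at hw
    induction hw using Submodule.span_induction with
    | mem w hw =>
      obtain ⟨s, hs, rfl⟩ := hw
      exact ⟨1, fun h => Ideal.IsPrime.ne_top ‹p.IsPrime› ((Ideal.eq_top_iff_one p).2 h), s, hs, one_smul _ _⟩
    | zero =>
      exact ⟨1, fun h => Ideal.IsPrime.ne_top ‹p.IsPrime› ((Ideal.eq_top_iff_one p).2 h), 0, S.zero_mem, by simp⟩
    | add v w _ _ hv hw =>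
      obtain ⟨t, ht, s, hs, e⟩ := hv
      obtain ⟨t', ht', s', hs', e'⟩ := hw
      refine ⟨t * t', fun h => (Ideal.IsPrime.mem_or_mem ‹p.IsPrime› h).elim ht ht', t' • s + t • s',
        add_mem (S.smul_mem _ hs) (S.smul_mem _ hs'), ?_⟩
      rw [smul_add, map_add, map_smul, map_smul, ← e, ← e', smul_smul, smul_smul, mul_comm t t']
    | smul c w _ hw =>
      obtain ⟨t, ht, s, hs, e⟩ := hw
      obtain ⟨⟨r, u⟩, hru⟩ := IsLocalization.surj p.primeCompl c
      simp only at hru
      refine ⟨t * u, fun h => (Ideal.IsPrime.mem_or_mem ‹p.IsPrime› h).elim ht u.2, r • s, S.smul_mem _ hs, ?_⟩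
      rw [mul_smul, ← algebraMap_smul A (u : R) (c • w), smul_smul, mul_comm, hru, algebraMap_smul, smul_comm, e,
        map_smul]
  obtain ⟨t, ht, s, hs, e⟩ := aux _ hv
  rw [← map_smul] at e
  obtain ⟨u, hu⟩ := (IsLocalizedModule.eq_iff_exists p.primeCompl ι).1 e
  refine ⟨(u : R) * t, fun h => (Ideal.IsPrime.mem_or_mem ‹p.IsPrime› h).elim u.2 ht, ?_⟩
  have hu' : (u : R) • t • v = (u : R) • s := hu
  rw [mul_smul, hu']
  exact S.smul_mem _ hs

variable {y : Fin l → N}

omit [IsNoetherianRing R] in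
theorem F_loc (i : ℕ) : F (fun j => ι (y j)) i = Submodule.span A (ι '' (spanBefore R N y i : Set N)) := by
  refine le_antisymm ((F_le_iff _).2 fun j hj => Submodule.subset_span ⟨y j, mem_F y hj, rfl⟩) ?_
  rw [Submodule.span_le]
  rintro _ ⟨z, hz, rfl⟩
  have : spanBefore R N y i ≤ sat p (F (fun j => ι (y j)) i) :=
    (F_le_iff _).2 fun j hj => mem_F (R := A) (fun j => ι (y j)) hj
  exact this hz

omit [IsNoetherianRing R] in
theorem mem_F_loc {i : ℕ} {x : N} (h : x ∈ spanBefore R N y i) : ι x ∈ F (fun j => ι (y j)) i := by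
  rw [F_loc]; exact Submodule.subset_span ⟨x, h, rfl⟩

omit [IsNoetherianRing R] in
theorem admissible_loc (hy : ∀ i : Fin l, ∀ r ∈ p, r • y i ∈ spanBefore R N y i) :
    IsAdmissible A V (fun j => ι (y j)) := fun i c hc => by
  obtain ⟨⟨r, u⟩, hru⟩ := IsLocalization.surj p.primeCompl c
  simp only at hru
  have hr : r ∈ p := (mem_max_iff p r).1 (by rw [← hru]; exact Ideal.mul_mem_right _ _ hc)
  have hu := IsLocalization.map_units A u
  refine (Submodule.smul_mem_iff_of_isUnit _ hu).1 ?_
  rw [smul_smul, mul_comm, hru, algebraMap_smul, ← map_smul]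
  exact mem_F_loc p (hy i r hr)

omit [IsNoetherianRing R] in
theorem nondeg_loc (hy : ∀ i : Fin l, ∀ r, r • y i ∈ spanBefore R N y i → r ∈ p) :
    Nondeg (R := A) (fun j => ι (y j)) := fun i hi => by
  obtain ⟨t, ht, h⟩ := clear_denom p (F_loc p (y := y) i) hi
  exact ht (hy i t h)

omit [IsNoetherianRing R] in
theorem length_loc (hyspan : Submodule.span R (Set.range y) = ⊤)
    (hy : ∀ (i : Fin l) (r : R), r • y i ∈ spanBefore R N y i ↔ r ∈ p) : Module.length A V = l := by
  have htop : F (fun j => ι (y j)) l = ⊤ := by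
    rw [F_loc, F_top y le_rfl, hyspan, eq_top_iff]
    rintro v -
    obtain ⟨n, s, hs, e⟩ := exists_num p v
    refine (Submodule.smul_mem_iff_of_isUnit _ (IsLocalization.map_units A (⟨s, hs⟩ : p.primeCompl))).1 ?_
    rw [algebraMap_smul, e]
    exact Submodule.subset_span ⟨n, trivial, rfl⟩
  have := length_F_eq (admissible_loc p fun i r hr => (hy i r).2 hr) (nondeg_loc p fun i r h => (hy i r).1 h) l le_rfl
  rwa [htop, Module.length_top] at this

omit [IsNoetherianRing R] in
theorem sat_F_loc (hyspan : Submodule.span R (Set.range y) = ⊤)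
    (hy : ∀ (i : Fin l) (r : R), r • y i ∈ spanBefore R N y i ↔ r ∈ p) :
    ∀ i, sat p (F (fun j => ι (y j)) i) = spanBefore R N y i := by
  intro i
  refine le_antisymm ?_ fun x hx => mem_F_loc p hx
  intro x hx
  have key : ∀ d, i + d ≥ i → x ∈ spanBefore R N y (i + d) → x ∈ spanBefore R N y i := by
    intro d
    induction d with
    | zero => intro _ h; exact h
    | succ d ih =>
      intro _ h
      refine ih (Nat.le_add_right _ _) ?_
      by_cases hd : i + d < l
      · rw [show i + (d + 1) = ((⟨i + d, hd⟩ : Fin l) : ℕ) + 1 from rfl, F_succ] at h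
        obtain ⟨u, hu, w, hw, huw⟩ := Submodule.mem_sup.1 h
        obtain ⟨r, rfl⟩ := Submodule.mem_span_singleton.1 hw
        have hmem : ι (r • y ⟨i + d, hd⟩) ∈ F (fun j => ι (y j)) (i + d) := by
          rw [show r • y ⟨i + d, hd⟩ = x - u by rw [← huw, add_sub_cancel_left], map_sub]
          exact sub_mem (F_mono _ (Nat.le_add_right _ _) hx) (mem_F_loc p hu)
        have hr : r ∈ p := by
          by_contra hr
          refine nondeg_loc p (fun i r h => (hy i r).1 h) ⟨i + d, hd⟩ ?_
          refine (Submodule.smul_mem_iff_of_isUnit _ (IsLocalization.map_units A (⟨r, hr⟩ : p.primeCompl))).1 ?_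
          rw [algebraMap_smul, ← map_smul]
          exact hmem
        rw [← huw]
        exact add_mem hu ((hy ⟨i + d, hd⟩ r).2 hr)
      · rw [F_top y (by omega)] at h ⊢
        exact h
  exact key l (Nat.le_add_right _ _) (by rw [F_top y (by omega), hyspan]; trivial)

omit [IsNoetherianRing R] in
theorem injective_loc (hyspan : Submodule.span R (Set.range y) = ⊤)
    (hy : ∀ (i : Fin l) (r : R), r • y i ∈ spanBefore R N y i ↔ r ∈ p) : Function.Injective ι := by
  rw [injective_iff_map_eq_zero]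
  intro x hx
  have := sat_F_loc p hyspan hy 0
  rw [F_zero (R := R)] at this
  have h1 : x ∈ sat p (F (fun j => ι (y j)) 0) := by rw [mem_sat, hx]; exact zero_mem _
  rw [this, Submodule.mem_bot] at h1
  exact h1

variable [Module.Finite R N] (hdim : ringKrullDim (R ⧸ p) ≤ 1)

include hdim in
theorem idx_self (hyspan : Submodule.span R (Set.range y) = ⊤)
    (hy : ∀ (i : Fin l) (r : R), r • y i ∈ spanBefore R N y i ↔ r ∈ p) : idx p (fun j => ι (y j)) = 0 := by
  have hP : ∀ a, Pair p (fun j => ι (y j)) a (y a) 1 := fun a =>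
    ⟨fun h => Ideal.IsPrime.ne_top ‹p.IsPrime› ((Ideal.eq_top_iff_one p).2 h), by rw [one_smul, sub_self]; exact zero_mem _⟩
  rw [idx_eq p hdim (admissible_loc p fun i r hr => (hy i r).2 hr) (nondeg_loc p fun i r h => (hy i r).1 h) y
    (fun _ => 1) hP]
  refine Finset.sum_eq_zero fun a _ => ?_
  rw [eps, sat_F_loc p hyspan hy, sat_F_loc p hyspan hy, ← F_succ, rlen_self, ordc_one, ordFrac_one p hdim]
  rfl

include hdim in
theorem idx_eq_length {z : Fin l → N} (hlen : Module.length A V = l)
    (hinj : Function.Injective ι) (hp : ∀ i : Fin l, ∀ r ∈ p, r • z i ∈ spanBefore R N z i)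
    (hn : Nondeg (R := A) (fun j => ι (z j))) :
    ∃ n : ℕ, Module.length R (N ⧸ Submodule.span R (Set.range z)) = n ∧ idx p (fun j => ι (z j)) = n := by
  have hf := admissible_loc p (y := z) hp
  have hP : ∀ a, Pair p (fun j => ι (z j)) a (z a) 1 := fun a =>
    ⟨fun h => Ideal.IsPrime.ne_top ‹p.IsPrime› ((Ideal.eq_top_iff_one p).2 h), by rw [one_smul, sub_self]; exact zero_mem _⟩
  let S : ℕ → Submodule R N := fun i => sat p (F (fun j => ι (z j)) i)
  let L : ℕ → Submodule R N := spanBefore R N z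
  have hLS : ∀ i, L i ≤ S i := fun i x hx => mem_F_loc p hx
  have hstep : ∀ a : Fin l, rlen (L ((a : ℕ) + 1)) (S ((a : ℕ) + 1))
      = rlen (L a) (S a) + rlen (S a ⊔ R ∙ z a) (S ((a : ℕ) + 1)) := by
    intro a
    have h1 : L ((a : ℕ) + 1) ≤ S a ⊔ R ∙ z a := by
      rw [show L ((a : ℕ) + 1) = _ from F_succ z a]; exact sup_le_sup_right (hLS a) _
    rw [rlen_add h1 (step_le p (hP a)), show L ((a : ℕ) + 1) = _ from F_succ z a]
    congr 1
    refine rlen_sup (hLS a) ?_
    rintro x ⟨hx1, hx2⟩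
    obtain ⟨u, hu, w, hw, rfl⟩ := Submodule.mem_sup.1 hx2
    obtain ⟨r, rfl⟩ := Submodule.mem_span_singleton.1 hw
    have hr : r ∈ p := (smul_num_mem p hf hn (hP a) r).1 (by simpa [S] using sub_mem hx1 (hLS a hu))
    exact add_mem hu (hp a r hr)
  have hsum : ∀ i, i ≤ l → rlen (L i) (S i) < ⊤ ∧ ((rlen (L i) (S i)).toNat : ℤ)
      = ∑ a ∈ Finset.univ.filter (fun a : Fin l => (a : ℕ) < i), eps p (fun j => ι (z j)) a (z a) 1 := by
    intro i
    induction i with
    | zero =>
      intro _
      have hS : S 0 = L 0 := by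
        refine le_antisymm ?_ (hLS 0)
        intro x hx
        rw [show S 0 = _ from rfl, mem_sat, F_zero, Submodule.mem_bot, ← map_zero ι] at hx
        rw [hinj hx]; exact zero_mem _
      rw [hS, rlen_self]
      simp
    | succ i ih =>
      intro hi
      obtain ⟨h1, h2⟩ := ih (Nat.le_of_succ_le hi)
      let a : Fin l := ⟨i, hi⟩
      have hlt := step_lt_top p hdim hf (hP a)
      have e : rlen (L (i + 1)) (S (i + 1)) = rlen (L i) (S i) + rlen (S i ⊔ R ∙ z a) (S (i + 1)) := hstep a
      rw [e]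
      refine ⟨WithTop.add_lt_top.2 ⟨h1, hlt⟩, ?_⟩
      rw [toNat_add' h1 hlt, Nat.cast_add, h2,
        show Finset.univ.filter (fun b : Fin l => (b : ℕ) < i + 1)
          = insert a (Finset.univ.filter (fun b : Fin l => (b : ℕ) < i)) by
          ext b; simp only [a, Finset.mem_filter, Finset.mem_univ, true_and, Finset.mem_insert, Fin.ext_iff]; omega,
        Finset.sum_insert (by simp [a])]
      have : eps p (fun j => ι (z j)) a (z a) 1 = ((rlen (S i ⊔ R ∙ z a) (S (i + 1))).toNat : ℤ) := by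
        rw [eps, ordc_one, ordFrac_one p hdim, sub_zero]
      rw [this, add_comm]
  obtain ⟨h1, h2⟩ := hsum l le_rfl
  have hSl : S l = ⊤ := by
    rw [eq_top_iff]
    intro x _
    rw [show S l = _ from rfl, mem_sat, F_top _ le_rfl, (nondeg_iff_span hlen hf).1 hn]
    trivial
  rw [hSl, show L l = _ from F_top z le_rfl, rlen_top] at h1 h2
  refine ⟨_, (ENat.coe_toNat h1.ne).symm, ?_⟩
  rw [h2, idx_eq p hdim hf hn z (fun _ => 1) hP]
  exact (Finset.sum_congr (Finset.filter_true_of_mem fun a _ => a.2).symm fun _ _ => rfl)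

omit [IsNoetherianRing R] [Module.Finite R N] in
theorem injective_iff_bijective (φ : M →ₗ[R] N) {x : Fin l → M} (hx : Submodule.span R (Set.range x) = ⊤)
    (hyspan : Submodule.span R (Set.range y) = ⊤)
    (hxp : ∀ (i : Fin l) (r : R), r • x i ∈ spanBefore R M x i ↔ r ∈ p)
    (hyp : ∀ (i : Fin l) (r : R), r • y i ∈ spanBefore R N y i ↔ r ∈ p) :
    Function.Injective φ ↔ Function.Bijective (LocalizedModule.map p.primeCompl φ) := by
  constructor
  · intro h
    have hinj := LocalizedModule.map_injective p.primeCompl φ h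
    refine ⟨hinj, ?_⟩
    rw [← LinearMap.range_eq_top]
    refine eq_top_of_length (length_loc p hyspan hyp) ?_
    rw [← (LinearEquiv.ofInjective _ hinj).length_eq]
    exact length_loc p hx hxp
  · intro h
    rw [injective_iff_map_eq_zero]
    intro m hm
    refine injective_loc p hx hxp ?_
    rw [map_zero]
    refine h.1 ?_
    rw [map_zero, LocalizedModule.mkLinearMap_apply, LocalizedModule.map_mk, hm, LocalizedModule.zero_mk]

theorem length_coker_eq (hdim : ringKrullDim (R ⧸ p) ≤ 1) (φ : M →ₗ[R] N) {x : Fin l → M}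
    (hx : Submodule.span R (Set.range x) = ⊤) (hy : Submodule.span R (Set.range y) = ⊤)
    (hxp : ∀ (i : Fin l) (r : R), r • x i ∈ spanBefore R M x i ↔ r ∈ p)
    (hyp : ∀ (i : Fin l) (r : R), r • y i ∈ spanBefore R N y i ↔ r ∈ p) (hφ : Function.Injective φ)
    {l' : ℕ} (hl : l' = l) (ex ey : Adm A V l') (f : p.ResidueField)
    (hex : ex.1 = fun i => ι (φ (x (Fin.cast hl i)))) (hey : ey.1 = fun i => ι (y (Fin.cast hl i)))
    (h : (Submodule.Quotient.mk (sym A V ex) : DetOfLen A V l') = f • Submodule.Quotient.mk (sym A V ey)) :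
    ∃ n : ℕ, Module.length R (N ⧸ LinearMap.range φ) = n ∧
      (n : ℤ) = CycAlg.ordFrac (R ⧸ p) p.ResidueField f := by
  subst hl
  simp only [Fin.cast_eq_self] at hex hey
  have hlen := length_loc p hy hyp
  have hinj := injective_loc p hy hyp
  have hp : ∀ i : Fin l', ∀ r ∈ p, r • φ (x i) ∈ spanBefore R N (φ ∘ x) i := fun i r hr => by
    rw [← map_smul, F_map]
    exact Submodule.mem_map_of_mem ((hxp i r).2 hr)
  have hnz : Nondeg (R := A) (fun i => ι (φ (x i))) :=
    nondeg_loc p (y := φ ∘ x) fun i r hr => by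
      rw [Function.comp_apply, ← map_smul, F_map] at hr
      obtain ⟨w, hw, e⟩ := hr
      exact (hxp i r).1 (hφ e ▸ hw)
  obtain ⟨n, hn1, hn2⟩ := idx_eq_length p hdim (z := φ ∘ x) hlen hinj hp hnz
  have hny : Nondeg (R := A) ey.1 := by rw [hey]; exact nondeg_loc p fun i r h => (hyp i r).1 h
  have key := idx_sub_eq_ord p hdim hlen ex ey (by rw [hex]; exact hnz) hny f h
  rw [hex, hey, idx_self p hdim hy hyp, zero_add] at key
  refine ⟨n, ?_, ?_⟩
  · rw [← hn1, Set.range_comp, ← Submodule.map_span, hx, Submodule.map_top]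
  · rw [← hn2]; exact key

end CycDet29

end
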