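import Groth.Agent.Lib.CycDet29.Basic
import Groth.Agent.Lib.Lattice26.Det
import Groth.Agent.Lib.HilbSam.Poly
import Groth.Prelude.Def_Tame
import Mathlib.RingTheory.Localization.Module
import Mathlib

/-! # Relative lengths of submodules over a ring with a one-dimensional prime -/

set_option autoImplicit false
set_option linter.style.haveILetI false
set_option maxHeartbeats 400000
universe u

noncomputable section

namespace CycDet29

variable {R : Type u} [CommRing R] {N : Type u} [AddCommGroup N] [Module R N]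

/-- relative length -/
def rlen (L M : Submodule R N) : ℕ∞ := Module.length R (↥M ⧸ L.submoduleOf M)

omit [CommRing R] in
theorem toNat_add' {a b : ℕ∞} (ha : a < ⊤) (hb : b < ⊤) : (a + b).toNat = a.toNat + b.toNat :=
  ENat.toNat_add ha.ne hb.ne

theorem rlen_add {L P M : Submodule R N} (h₁ : L ≤ P) (h₂ : P ≤ M) : rlen L M = rlen L P + rlen P M :=
  Groth.Agent.Lattice26.quotient_length_add h₁ h₂

theorem rlen_self (L : Submodule R N) : rlen L L = 0 := by
  rw [rlen, Module.length_eq_zero_iff]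
  refine ⟨fun a b => ?_⟩
  obtain ⟨a, rfl⟩ := Submodule.Quotient.mk_surjective _ a
  obtain ⟨b, rfl⟩ := Submodule.Quotient.mk_surjective _ b
  rw [Submodule.Quotient.eq]
  exact (a - b).2

theorem rlen_top (L : Submodule R N) : rlen L ⊤ = Module.length R (N ⧸ L) := by
  refine LinearEquiv.length_eq (Submodule.Quotient.equiv _ _ Submodule.topEquiv ?_)
  ext x
  exact ⟨fun ⟨y, hy, e⟩ => e ▸ hy, fun hx => ⟨⟨x, trivial⟩, hx, rfl⟩⟩

/-- enlarging both by a module meeting the larger one only in the smaller one -/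
theorem rlen_sup {L M K : Submodule R N} (hLM : L ≤ M) (h : M ⊓ (L ⊔ K) ≤ L) :
    rlen (L ⊔ K) (M ⊔ K) = rlen L M := by
  symm
  let f : (↥M ⧸ L.submoduleOf M) →ₗ[R] (↥(M ⊔ K) ⧸ (L ⊔ K).submoduleOf (M ⊔ K)) :=
    Submodule.mapQ _ _ (Submodule.inclusion le_sup_left) fun x hx => Submodule.mem_sup_left (T := K) hx
  refine LinearEquiv.length_eq (LinearEquiv.ofBijective f ⟨?_, ?_⟩)
  · refine (injective_iff_map_eq_zero f).2 fun z hz => ?_
    obtain ⟨x, rfl⟩ := Submodule.Quotient.mk_surjective _ z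
    rw [Submodule.mapQ_apply, Submodule.Quotient.mk_eq_zero] at hz
    exact (Submodule.Quotient.mk_eq_zero _).2 (h ⟨x.2, hz⟩ : (x : N) ∈ L)
  · intro z
    obtain ⟨⟨x, hx⟩, rfl⟩ := Submodule.Quotient.mk_surjective _ z
    obtain ⟨m, hm, k, hk, rfl⟩ := Submodule.mem_sup.1 hx
    refine ⟨Submodule.Quotient.mk ⟨m, hm⟩, ?_⟩
    rw [Submodule.mapQ_apply, Submodule.Quotient.eq]
    show m - (m + k) ∈ L ⊔ K
    rw [sub_add_cancel_left]
    exact Submodule.mem_sup_right (K.neg_mem hk)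

/-- cyclic subquotient -/
theorem rlen_cyclic {p : Ideal R} {L : Submodule R N} {n : N} (hann : ∀ t : R, t • n ∈ L ↔ t ∈ p) (r : R) :
    rlen (L ⊔ R ∙ (r • n)) (L ⊔ R ∙ n) = Module.length R (R ⧸ (p ⊔ Ideal.span {r})) := by
  have hn : ∀ t : R, t • n ∈ L ⊔ R ∙ n := fun t =>
    Submodule.mem_sup_right (Submodule.smul_mem _ t (Submodule.mem_span_singleton_self n))
  let g : R →ₗ[R] ↥(L ⊔ R ∙ n) ⧸ (L ⊔ R ∙ (r • n)).submoduleOf (L ⊔ R ∙ n) :=
    ((L ⊔ R ∙ (r • n)).submoduleOf (L ⊔ R ∙ n)).mkQ ∘ₗ (LinearMap.toSpanSingleton R N n).codRestrict _ hn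
  have hg : ∀ t, g t = Submodule.Quotient.mk ⟨t • n, hn t⟩ := fun t => rfl
  have hker : LinearMap.ker g = p ⊔ Ideal.span {r} := by
    ext t
    rw [LinearMap.mem_ker, hg, Submodule.Quotient.mk_eq_zero]
    show t • n ∈ L ⊔ R ∙ (r • n) ↔ _
    rw [Submodule.mem_sup]
    constructor
    · rintro ⟨l, hl, w, hw, e⟩
      obtain ⟨c, rfl⟩ := Submodule.mem_span_singleton.1 hw
      have : t - c * r ∈ p := (hann _).1 (by rw [sub_smul, mul_smul, ← e, add_sub_cancel_right]; exact hl)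
      rw [show t = (t - c * r) + c * r by ring]
      exact Submodule.add_mem_sup this (Ideal.mul_mem_left _ _ (Ideal.subset_span rfl))
    · intro ht
      obtain ⟨a, ha, b, hb, rfl⟩ := Submodule.mem_sup.1 ht
      obtain ⟨c, rfl⟩ := Ideal.mem_span_singleton'.1 hb
      exact ⟨a • n, (hann a).2 ha, c • r • n, Submodule.smul_mem _ _ (Submodule.mem_span_singleton_self _),
        by rw [add_smul, mul_smul]⟩
  have hsurj : Function.Surjective g := fun z => by
    obtain ⟨⟨x, hx⟩, rfl⟩ := Submodule.Quotient.mk_surjective _ z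
    obtain ⟨l, hl, w, hw, rfl⟩ := Submodule.mem_sup.1 hx
    obtain ⟨c, rfl⟩ := Submodule.mem_span_singleton.1 hw
    refine ⟨c, ?_⟩
    rw [hg, Submodule.Quotient.eq]
    show c • n - (l + c • n) ∈ L ⊔ R ∙ (r • n)
    rw [sub_add_cancel_right]
    exact Submodule.mem_sup_left (L.neg_mem hl)
  exact ((Submodule.quotEquivOfEq _ _ hker.symm).trans (g.quotKerEquivOfSurjective hsurj)).length_eq.symm

variable (p : Ideal R) [p.IsPrime] [IsNoetherianRing R]

/-- the order at `r` on `R ⧸ p` -/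
def ordc (r : R) : ℤ := CycAlg.ordFrac (R ⧸ p) p.ResidueField (algebraMap R p.ResidueField r)

theorem ordc_one : ordc p (1 : R) = CycAlg.ordFrac (R ⧸ p) p.ResidueField 1 := by rw [ordc, map_one]

variable (hdim : ringKrullDim (R ⧸ p) ≤ 1)

include hdim in
theorem ordFrac_one : CycAlg.ordFrac (R ⧸ p) p.ResidueField 1 = 0 := by
  have := Groth.Agent.Lattice26.ordFrac_mul hdim (x := (1 : p.ResidueField)) (y := 1) one_ne_zero one_ne_zero
  rw [one_mul] at this
  omega

include hdim in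
theorem ordFrac_neg {x : p.ResidueField} (hx : x ≠ 0) :
    CycAlg.ordFrac (R ⧸ p) p.ResidueField (-x) = CycAlg.ordFrac (R ⧸ p) p.ResidueField x := by
  have h1 := Groth.Agent.Lattice26.ordFrac_mul hdim (x := (-1 : p.ResidueField)) (y := -1)
    (neg_ne_zero.2 one_ne_zero) (neg_ne_zero.2 one_ne_zero)
  rw [neg_mul_neg, one_mul, ordFrac_one p hdim] at h1
  rw [show -x = -1 * x by ring, Groth.Agent.Lattice26.ordFrac_mul hdim (neg_ne_zero.2 one_ne_zero) hx]
  omega

omit [IsNoetherianRing R] in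
theorem algebraMap_residueField_ne_zero {r : R} (hr : r ∉ p) : algebraMap R p.ResidueField r ≠ 0 :=
  fun h => hr (Ideal.algebraMap_residueField_eq_zero.1 h)

include hdim in
theorem ordc_mul {r s : R} (hr : r ∉ p) (hs : s ∉ p) : ordc p (r * s) = ordc p r + ordc p s := by
  rw [ordc, map_mul]
  exact Groth.Agent.Lattice26.ordFrac_mul hdim (algebraMap_residueField_ne_zero p hr)
    (algebraMap_residueField_ne_zero p hs)

include hdim in
theorem ordc_eq {r : R} (hr : r ∉ p) :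
    ordc p r = ((Module.length R (R ⧸ (p ⊔ Ideal.span {r}))).toNat : ℤ) ∧
      Module.length R (R ⧸ (p ⊔ Ideal.span {r})) < ⊤ := by
  have h0 : Ideal.Quotient.mk p r ≠ 0 := fun h => hr (Ideal.Quotient.eq_zero_iff_mem.1 h)
  obtain ⟨h1, h2⟩ := Groth.Agent.Lattice26.ordFrac_algebraMap (A := R ⧸ p) (K := p.ResidueField) hdim h0
  have e : Module.length R (R ⧸ (p ⊔ Ideal.span {r}))
      = Module.length (R ⧸ p) ((R ⧸ p) ⧸ Ideal.span {Ideal.Quotient.mk p r}) := by
    rw [← Module.length_eq_of_surjective (R := R ⧸ p) (S := R) (M := (R ⧸ p) ⧸ Ideal.span {Ideal.Quotient.mk p r})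
      Ideal.Quotient.mk_surjective]
    refine LinearEquiv.length_eq ?_
    let g : R →ₗ[R] (R ⧸ p) ⧸ Ideal.span {Ideal.Quotient.mk p r} := Algebra.linearMap R _
    have hg : ∀ t, g t = Ideal.Quotient.mk (Ideal.span {Ideal.Quotient.mk p r}) (Ideal.Quotient.mk p t) := fun t => rfl
    have hker : LinearMap.ker g = p ⊔ Ideal.span {r} := by
      ext t
      rw [LinearMap.mem_ker, hg, Ideal.Quotient.eq_zero_iff_mem, ← Ideal.mem_comap,
        ← Set.image_singleton, ← Ideal.map_span, Ideal.comap_map_of_surjective _ Ideal.Quotient.mk_surjective,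
        ← RingHom.ker_eq_comap_bot, Ideal.mk_ker, sup_comm]
    exact (Submodule.quotEquivOfEq _ _ hker.symm).trans (g.quotKerEquivOfSurjective fun z => by
      obtain ⟨z, rfl⟩ := Ideal.Quotient.mk_surjective z
      obtain ⟨t, rfl⟩ := Ideal.Quotient.mk_surjective z
      exact ⟨t, rfl⟩)
  rw [e]
  exact ⟨by rw [← h1]; rfl, h2⟩

include hdim in
theorem rlen_lt_top [Module.Finite R N] {L M : Submodule R N}
    (hp : ∀ r ∈ p, ∀ x ∈ M, r • x ∈ L) (ht : ∀ x ∈ M, ∃ t, t ∉ p ∧ t • x ∈ L) : rlen L M < ⊤ := by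
  refine lt_top_iff_ne_top.2 (Module.length_ne_top_iff.2 (Groth.Agent.HilbSam.isFiniteLength_of_support fun P hP => ?_))
  obtain ⟨z, hz⟩ := Module.mem_support_iff'.1 hP
  obtain ⟨⟨x, hx⟩, rfl⟩ := Submodule.Quotient.mk_surjective _ z
  have hmem : ∀ t : R, t • x ∈ L → t ∈ P.asIdeal := by
    intro t h
    by_contra hn
    exact hz t hn ((Submodule.Quotient.mk_eq_zero _).2 (h : ((⟨t • x, M.smul_mem t hx⟩ : M) : N) ∈ L))
  have hle : p ≤ P.asIdeal := fun r hr => hmem r (hp r hr x hx)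
  obtain ⟨t, htp, htx⟩ := ht x hx
  haveI : Ring.KrullDimLE 1 (R ⧸ p) := Ring.krullDimLE_iff.2 hdim
  let P' := P.asIdeal.map (Ideal.Quotient.mk p)
  have hcomap : P'.comap (Ideal.Quotient.mk p) = P.asIdeal := by
    rw [Ideal.comap_map_of_surjective _ Ideal.Quotient.mk_surjective, ← RingHom.ker_eq_comap_bot, Ideal.mk_ker,
      sup_eq_left.2 hle]
  haveI : P'.IsPrime := Ideal.map_isPrime_of_surjective Ideal.Quotient.mk_surjective (by rw [Ideal.mk_ker]; exact hle)
  have hne : P' ≠ ⊥ := fun h => htp (Ideal.Quotient.eq_zero_iff_mem.1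
    ((Ideal.mem_bot).1 (h ▸ Ideal.mem_map_of_mem _ (hmem t htx))))
  haveI := Ring.krullDimLE_one_iff_of_noZeroDivisors.1 ‹_› P' hne inferInstance
  rw [← hcomap]
  exact Ideal.comap_isMaximal_of_surjective _ Ideal.Quotient.mk_surjective

end CycDet29

end
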